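import Mathlib

/-! Lower bounds for the degree of a representation from the characters of an abelian subgroup. -/

set_option autoImplicit false

namespace CfsgLib.RadicalBound

open scoped commutatorElement

variable {G : Type*} [Group G] {k : ℕ}

/-- An irreducible representation of degree at least two is non-trivial on non-central elements of a perfect
group which is simple modulo its centre. -/
theorem nontrivial_of_simple (hsimp : IsSimpleGroup (G ⧸ Subgroup.center G)) (hperf : commutator G = ⊤)
    (ρ : Representation ℂ G (Fin k → ℂ)) (hirr : ρ.IsIrreducible) (hk : 2 ≤ k) {g₀ : G}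
    (hg₀ : g₀ ∉ Subgroup.center G) : ρ g₀ ≠ 1 := by
  intro hg
  haveI : IsSimpleOrder (Subrepresentation ρ) := hirr
  let K : Subgroup G :=
    { carrier := {g | ρ g = 1}
      mul_mem' := fun {a b} ha hb => by
        show ρ (a * b) = 1
        rw [map_mul, show ρ a = 1 from ha, show ρ b = 1 from hb, one_mul]
      one_mem' := map_one ρ
      inv_mem' := fun {a} ha => by
        show ρ a⁻¹ = 1
        calc ρ a⁻¹ = ρ a⁻¹ * ρ a := by rw [show ρ a = 1 from ha, mul_one]
          _ = 1 := by rw [← map_mul, inv_mul_cancel, map_one] }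
  haveI : K.Normal := ⟨fun a ha g => by
    show ρ (g * a * g⁻¹) = 1
    rw [map_mul, map_mul, show ρ a = 1 from ha, mul_one, ← map_mul, mul_inv_cancel, map_one]⟩
  let π := QuotientGroup.mk' (Subgroup.center G)
  haveI := hsimp
  haveI : (K.map π).Normal := Subgroup.Normal.map inferInstance π (QuotientGroup.mk'_surjective _)
  rcases IsSimpleGroup.eq_bot_or_eq_top_of_normal (K.map π) inferInstance with h | h
  · refine hg₀ ((QuotientGroup.eq_one_iff g₀).1 ?_)
    have : π g₀ ∈ K.map π := ⟨_, hg, rfl⟩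
    rwa [h, Subgroup.mem_bot] at this
  · have hall : ∀ g, g ∈ K := by
      intro g
      have hKC : K ⊔ Subgroup.center G = ⊤ := by
        have := Subgroup.comap_map_eq π K
        rw [h, Subgroup.comap_top, QuotientGroup.ker_mk'] at this
        exact this.symm
      have hle : commutator G ≤ K := by
        rw [_root_.commutator_def, Subgroup.commutator_le]
        intro a _ b _
        obtain ⟨a', ha', za, hza, rfl⟩ := Subgroup.mem_sup_of_normal_right.1 (hKC ▸ Subgroup.mem_top a)
        obtain ⟨b', hb', zb, hzb, rfl⟩ := Subgroup.mem_sup_of_normal_right.1 (hKC ▸ Subgroup.mem_top b)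
        have e : ⁅a' * za, b' * zb⁆ = ⁅a', b'⁆ := by
          have c1 : ∀ x, za * x = x * za := fun x => (Subgroup.mem_center_iff.1 hza x).symm
          have c2 : ∀ x, zb * x = x * zb := fun x => (Subgroup.mem_center_iff.1 hzb x).symm
          simp only [commutatorElement_def, _root_.mul_inv_rev]
          calc a' * za * (b' * zb) * (za⁻¹ * a'⁻¹) * (zb⁻¹ * b'⁻¹)
              = a' * (za * (b' * zb)) * za⁻¹ * a'⁻¹ * zb⁻¹ * b'⁻¹ := by group
            _ = a' * b' * (zb * a'⁻¹) * zb⁻¹ * b'⁻¹ := by rw [c1]; group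
            _ = _ := by rw [c2]; group
        rw [e]
        exact K.mul_mem (K.mul_mem (K.mul_mem ha' hb') (K.inv_mem ha')) (K.inv_mem hb')
      exact hle (hperf ▸ Subgroup.mem_top g)
    let w : Fin k → ℂ := Pi.single ⟨0, by omega⟩ 1
    let U : Subrepresentation ρ := ⟨ℂ ∙ w, fun g x hx => by rw [show ρ g = 1 from hall g]; exact hx⟩
    have hw : w ≠ 0 := fun h => by simpa [w] using congrFun h ⟨0, by omega⟩
    rcases IsSimpleOrder.eq_bot_or_eq_top U with hU | hU
    · exact hw (Submodule.span_singleton_eq_bot.1 (congrArg Subrepresentation.toSubmodule hU))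
    · have e : (ℂ ∙ w) = ⊤ := congrArg Subrepresentation.toSubmodule hU
      have := finrank_span_singleton (K := ℂ) hw
      rw [e, finrank_top, Module.finrank_fintype_fun_eq_card, Fintype.card_fin] at this
      omega

variable {V : Type*} [AddCommGroup V] [Fintype V] (f : V → G)
  (hf : ∀ S T, f (S + T) = f S * f T) (ρ : Representation ℂ G (Fin k → ℂ))

/-- The projection to the eigenspace of a character. -/
noncomputable def proj (χ : AddChar V ℂ) : Module.End ℂ (Fin k → ℂ) :=
  (Fintype.card V : ℂ)⁻¹ • ∑ S : V, χ (-S) • ρ (f S)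

include hf

theorem eig_proj (χ : AddChar V ℂ) (T : V) : ρ (f T) * proj f ρ χ = χ T • proj f ρ χ := by
  simp only [proj, mul_smul_comm, Finset.mul_sum, Finset.smul_sum, smul_smul]
  refine Fintype.sum_equiv (Equiv.addLeft T) _ _ fun S => ?_
  show _ = _ • ρ (f (T + S))
  rw [← map_mul, ← hf]
  congr 1
  rw [Equiv.coe_addLeft, neg_add, AddChar.map_add_eq_mul]
  have : χ T * χ (-T) = 1 := by rw [← AddChar.map_add_eq_mul, add_neg_cancel, AddChar.map_zero_eq_one]
  linear_combination (-((Fintype.card V : ℂ)⁻¹ * χ (-S))) * this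

omit hf in
/-- The projection fixes its eigenvectors and kills the others. -/
theorem proj_eigen [DecidableEq (AddChar V ℂ)] (χ χ' : AddChar V ℂ) {w : Fin k → ℂ}
    (hw : ∀ S, ρ (f S) w = χ' S • w) : proj f ρ χ w = if χ = χ' then w else 0 := by
  simp only [proj, LinearMap.smul_apply, LinearMap.sum_apply, hw, smul_smul, ← Finset.sum_smul]
  split_ifs with h
  · subst h
    simp only [← AddChar.map_add_eq_mul, neg_add_cancel, AddChar.map_zero_eq_one, Finset.sum_const,
      Finset.card_univ, nsmul_eq_mul, mul_one]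
    rw [inv_mul_cancel₀ (Nat.cast_ne_zero.2 Fintype.card_ne_zero), one_smul]
  · have hne : χ⁻¹ * χ' ≠ 1 := fun e => h (inv_mul_eq_one.1 e)
    have hz : ∑ S : V, χ (-S) * χ' S = 0 := by
      rw [← AddChar.sum_eq_zero_of_ne_one hne]
      exact Finset.sum_congr rfl fun S _ => by rw [AddChar.mul_apply, AddChar.inv_apply]
    rw [hz]; simp

/-- Some non-trivial character occurs, as soon as the subgroup acts non-trivially. -/
theorem exists_eigen {S1 : V} (hS1 : ρ (f S1) ≠ 1) :
    ∃ χ : AddChar V ℂ, χ ≠ 1 ∧ ∃ w, w ≠ 0 ∧ ∀ S, ρ (f S) w = χ S • w := by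
  classical
  obtain ⟨χ, hχ1, hχ⟩ : ∃ χ, χ ≠ 1 ∧ proj f ρ χ ≠ 0 := by
    by_contra hcon
    push Not at hcon
    have hsum : ∑ χ, proj f ρ χ = 1 := by
      simp only [proj, ← Finset.smul_sum]
      rw [Finset.sum_comm]
      simp only [← Finset.sum_smul]
      rw [Finset.sum_eq_single (0 : V) (fun S _ hS => ?_) (by simp)]
      · have h0 : f 0 = 1 := by
          have := hf 0 0
          rwa [add_zero, left_eq_mul] at this
        rw [h0, map_one, neg_zero, smul_smul]
        simp only [AddChar.map_zero_eq_one, Finset.sum_const, Finset.card_univ, nsmul_eq_mul, mul_one]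
        rw [AddChar.card_eq, inv_mul_cancel₀ (Nat.cast_ne_zero.2 Fintype.card_ne_zero), one_smul]
      · rw [AddChar.sum_apply_eq_zero_iff_ne_zero.2 (neg_ne_zero.2 hS), zero_smul]
    apply hS1
    rw [Finset.sum_eq_single (1 : AddChar V ℂ) (fun χ _ h => hcon χ h) (by simp)] at hsum
    have := eig_proj f hf ρ 1 S1
    rw [hsum, mul_one, AddChar.one_apply, one_smul] at this
    exact this
  obtain ⟨x, hx⟩ : ∃ x, proj f ρ χ x ≠ 0 := by
    by_contra hcon
    push Not at hcon
    exact hχ (LinearMap.ext hcon)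
  exact ⟨χ, hχ1, _, hx, fun S => LinearMap.congr_fun (eig_proj f hf ρ χ S) x⟩

omit hf in
/-- Characters with eigenvectors are no more than the degree. -/
theorem card_le (O : Finset (AddChar V ℂ)) (h : ∀ χ ∈ O, ∃ w, w ≠ 0 ∧ ∀ S, ρ (f S) w = χ S • w) :
    O.card ≤ k := by
  classical
  choose w hw0 hw using h
  have hli : LinearIndependent ℂ fun χ : O => w χ.1 χ.2 := by
    rw [Fintype.linearIndependent_iff]
    intro c hc l
    have := congrArg (proj f ρ l.1) hc
    simp only [map_sum, map_smul, map_zero, fun χ : O => proj_eigen f ρ l.1 χ.1 (hw χ.1 χ.2)] at this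
    rw [Finset.sum_eq_single l (fun l' _ hl' => by rw [if_neg fun h => hl' (Subtype.ext h).symm, smul_zero])
      (by simp), if_pos rfl] at this
    exact (smul_eq_zero.1 this).resolve_right (hw0 _ _)
  have hle := hli.fintype_card_le_finrank
  rwa [Fintype.card_coe, Module.finrank_fintype_fun_eq_card, Fintype.card_fin] at hle

omit hf [Fintype V] in
/-- Eigenvectors are moved by the normalizer. -/
theorem eigen_conj {χ χ' : AddChar V ℂ} {w : Fin k → ℂ} (hw0 : w ≠ 0)
    (hw : ∀ S, ρ (f S) w = χ S • w) (g : G) (c : V → V) (hc : ∀ S, g * f S = f (c S) * g)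
    (hχ : ∀ S, χ' S = χ (c S)) : ∃ w', w' ≠ 0 ∧ ∀ S, ρ (f S) w' = χ' S • w' := by
  refine ⟨ρ g⁻¹ w, fun h => hw0 ?_, fun S => ?_⟩
  · calc w = (ρ g * ρ g⁻¹) w := by rw [← map_mul, mul_inv_cancel, map_one]; rfl
      _ = 0 := by rw [Module.End.mul_apply, h, map_zero]
  · have e : f S * g⁻¹ = g⁻¹ * f (c S) := by
      rw [eq_inv_mul_iff_mul_eq, ← mul_assoc, hc, mul_inv_cancel_right]
    rw [← Module.End.mul_apply, ← map_mul, e, map_mul, Module.End.mul_apply, hw, map_smul, hχ]

end CfsgLib.RadicalBound
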