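import Mathlib

/-! Orbits on hermitian matrices of the linear group of fixed determinant type are large. -/

set_option autoImplicit false
set_option maxHeartbeats 800000

namespace CfsgLib.RadicalBound

open Matrix

section Move

variable {F : Type*} [Field F] {ι : Type*} [Fintype ι] [DecidableEq ι]

theorem exists_dual {y x : ι → F} (hy : y ≠ 0) (hx : x ≠ 0) :
    ∃ l : ι → F, l ⬝ᵥ y = 1 ∧ l ⬝ᵥ x ≠ 0 := by
  obtain ⟨i, hi⟩ := Function.ne_iff.1 hy
  obtain ⟨j, hj⟩ := Function.ne_iff.1 hx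
  rw [Pi.zero_apply] at hi hj
  by_cases hxi : x i = 0
  · by_cases hyj : y j = 0
    · refine ⟨Pi.single i (y i)⁻¹ + Pi.single j 1, ?_, ?_⟩
      · simp [add_dotProduct, hyj, hi]
      · simp [add_dotProduct, hxi, hj]
    · exact ⟨Pi.single j (y j)⁻¹, by simp [hyj], by simp [hyj, hj]⟩
  · exact ⟨Pi.single i (y i)⁻¹, by simp [hi], by simp [hi, hxi]⟩

theorem det_one_add_vec (u v : ι → F) : (1 + vecMulVec u v).det = 1 + v ⬝ᵥ u := by
  rw [vecMulVec_eq Unit, det_one_add_replicateCol_mul_replicateRow]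

/-- Move a vector and a functional simultaneously, with any determinant. -/
theorem exists_pair_map {v x μ φ : ι → F} (hv : v ≠ 0) (hx : x ≠ 0) (hμ : μ ≠ 0) (hφ : φ ≠ 0)
    (h : μ ⬝ᵥ x = φ ⬝ᵥ v) : ∃ A : Matrix ι ι F, A.det ≠ 0 ∧ A *ᵥ v = x ∧ μ ᵥ* A = φ := by
  obtain ⟨l, hl1, hl2⟩ := exists_dual hμ hφ
  obtain ⟨A0, hA0, hμA⟩ : ∃ A0 : Matrix ι ι F, A0.det ≠ 0 ∧ μ ᵥ* A0 = φ := by
    refine ⟨1 + vecMulVec l (φ - μ), ?_, ?_⟩
    · rw [det_one_add_vec, sub_dotProduct, dotProduct_comm μ l, hl1, dotProduct_comm φ l, add_sub_cancel]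
      exact hl2
    · rw [vecMul_add, vecMul_one, vecMul_vecMulVec, dotProduct_comm μ l, hl1, one_smul, add_sub_cancel]
  have hy : A0 *ᵥ v ≠ 0 := fun e => hv <| by
    have := congrArg (fun z => A0⁻¹ *ᵥ z) e
    simpa [mulVec_mulVec, nonsing_inv_mul _ (isUnit_iff_ne_zero.2 hA0)] using this
  have hμy : μ ⬝ᵥ (A0 *ᵥ v) = μ ⬝ᵥ x := by rw [dotProduct_mulVec, hμA, h]
  obtain ⟨r, hr1, hr2⟩ := exists_dual hy hx
  refine ⟨(1 + vecMulVec (x - A0 *ᵥ v) r) * A0, ?_, ?_, ?_⟩
  · rw [det_mul, det_one_add_vec, dotProduct_sub, hr1, add_sub_cancel]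
    exact mul_ne_zero hr2 hA0
  · rw [← mulVec_mulVec, add_mulVec, one_mulVec, vecMulVec_mulVec, hr1, MulOpposite.op_one, one_smul,
      add_sub_cancel]
  · rw [← vecMul_vecMul, vecMul_add, vecMul_one, vecMul_vecMulVec, dotProduct_sub, hμy, sub_self, zero_smul,
      add_zero, hμA]

/-- Changing the determinant, keeping a vector with non-isotropic image. -/
theorem exists_det_fix (h2 : 2 ≤ Fintype.card ι) {μ x : ι → F} (hμx : μ ⬝ᵥ x ≠ 0) (d : F) :
    ∃ D : Matrix ι ι F, D.det = d ∧ D *ᵥ x = x ∧ μ ᵥ* D = μ := by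
  obtain ⟨u, hu0, hu⟩ : ∃ u : ι → F, u ≠ 0 ∧ μ ⬝ᵥ u = 0 := by
    obtain ⟨i, j, hij⟩ := Fintype.exists_pair_of_one_lt_card (α := ι) (by omega)
    by_cases hi : μ i = 0
    · exact ⟨Pi.single i 1, by simp, by simp [hi]⟩
    · refine ⟨Pi.single j (μ i) - Pi.single i (μ j), fun e => hi ?_, ?_⟩
      · simpa [hij.symm] using congrFun e j
      · simp [dotProduct_sub, mul_comm]
  obtain ⟨l0, hl0, -⟩ := exists_dual hu0 hu0
  obtain ⟨l, hl⟩ : ∃ l, l = l0 - (l0 ⬝ᵥ x / μ ⬝ᵥ x) • μ := ⟨_, rfl⟩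
  refine ⟨1 + vecMulVec ((d - 1) • u) l, ?_, ?_, ?_⟩
  · rw [det_one_add_vec, hl, sub_dotProduct, smul_dotProduct, dotProduct_smul, dotProduct_smul, hl0, hu]
    simp
  · rw [add_mulVec, one_mulVec, vecMulVec_mulVec, hl, sub_dotProduct, smul_dotProduct, smul_eq_mul,
      div_mul_cancel₀ _ hμx, sub_self, MulOpposite.op_zero, zero_smul, add_zero]
  · rw [vecMul_add, vecMul_one, vecMul_vecMulVec, dotProduct_smul, hu, smul_zero, zero_smul, add_zero]

/-- Changing the determinant, scaling the functional. -/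
theorem exists_det_scale {μ x : ι → F} (hμ : μ ≠ 0) (hμx : μ ⬝ᵥ x = 0) (d : F) :
    ∃ D : Matrix ι ι F, D.det = d ∧ D *ᵥ x = x ∧ μ ᵥ* D = d • μ := by
  obtain ⟨w, hw, -⟩ := exists_dual hμ hμ
  refine ⟨1 + vecMulVec ((d - 1) • w) μ, ?_, ?_, ?_⟩
  · rw [det_one_add_vec, dotProduct_smul, dotProduct_comm, hw]
    simp
  · rw [add_mulVec, one_mulVec, vecMulVec_mulVec, hμx, MulOpposite.op_zero, zero_smul, add_zero]
  · rw [vecMul_add, vecMul_one, vecMul_vecMulVec, dotProduct_smul, dotProduct_comm, hw]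
    rw [smul_eq_mul, mul_one, sub_smul, one_smul, add_sub_cancel]

end Move

variable {F : Type*} [Field F] [Fintype F] [DecidableEq F] (σ : F →+* F)

/-- The conjugate transpose. -/
def ct {a b : Type*} (A : Matrix a b F) : Matrix b a F := Aᵀ.map σ

variable {σ}

omit [Fintype F] [DecidableEq F] in
theorem ct_mul {a b c : Type*} [Fintype b] (A : Matrix a b F) (B : Matrix b c F) :
    ct σ (A * B) = ct σ B * ct σ A := by
  rw [ct, transpose_mul, Matrix.map_mul]; rfl

/-- The hermitian form of a matrix. -/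
def bf {ι : Type*} [Fintype ι] (H : Matrix ι ι F) (x y : ι → F) : F := ((fun i => σ (x i)) ᵥ* H) ⬝ᵥ y

omit [Fintype F] [DecidableEq F] in
theorem vecMul_ct {ι : Type*} [Fintype ι] (A H : Matrix ι ι F) (v : ι → F) :
    (fun i => σ (v i)) ᵥ* (ct σ A * H * A) = ((fun i => σ ((A *ᵥ v) i)) ᵥ* H) ᵥ* A := by
  rw [← vecMul_vecMul, ← vecMul_vecMul]
  congr 2
  funext i
  simp [ct, vecMul, mulVec, dotProduct, mul_comm]

variable {q : ℕ} (hF : Fintype.card F = q ^ 2) (hinv : ∀ x, σ (σ x) = x) (c0 : F) (hc0 : c0 ≠ 0)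
  (hskew : c0 + σ c0 = 0) (d0 : F) (hd0 : d0 + σ d0 = 1)

include hF hinv hc0 hskew hd0 in
/-- The fixed field has `q` elements. -/
theorem card_fix : (Finset.univ.filter fun x : F => σ x = x).card = q := by
  set S := Finset.univ.filter fun x : F => σ x = x
  have e : S × S ≃ F :=
    { toFun := fun p => d0 * p.1.1 + c0 * p.2.1
      invFun := fun x => (⟨x + σ x, by simp [S, hinv, add_comm]⟩, ⟨(x - d0 * (x + σ x)) / c0, by
        have hc : σ c0 = -c0 := by linear_combination hskew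
        have hd : σ d0 = 1 - d0 := by linear_combination hd0
        simp only [S, Finset.mem_filter, Finset.mem_univ, true_and, map_div₀, map_sub, map_mul, map_add, hinv, hc, hd]
        field_simp
        ring⟩)
      left_inv := fun p => by
        have h1 : σ p.1.1 = p.1.1 := (Finset.mem_filter.1 p.1.2).2
        have h2 : σ p.2.1 = p.2.1 := (Finset.mem_filter.1 p.2.2).2
        have e1 : d0 * p.1.1 + c0 * p.2.1 + σ (d0 * p.1.1 + c0 * p.2.1) = p.1.1 := by
          rw [map_add, map_mul, map_mul, h1, h2]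
          linear_combination p.1.1 * hd0 + p.2.1 * hskew
        refine Prod.ext (Subtype.ext e1) (Subtype.ext ?_)
        show (d0 * p.1.1 + c0 * p.2.1 - d0 * _) / c0 = p.2.1
        rw [e1, add_sub_cancel_left, mul_div_cancel_left₀ _ hc0]
      right_inv := fun x => by
        show d0 * (x + σ x) + c0 * ((x - d0 * (x + σ x)) / c0) = x
        field_simp
        ring }
  have := Fintype.card_congr e
  rw [Fintype.card_prod, Fintype.card_coe, hF, ← sq] at this
  exact Nat.pow_left_injective (by norm_num) this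

include hF hinv hc0 hskew hd0 in
/-- Orbits of non-zero hermitian matrices are large. -/
theorem orbit_herm {m : ℕ} (hm : 2 ≤ m) (hnorm : ∀ c : F, σ c = c → ∃ t, t * σ t = c)
    (hN : ∀ s : F, s * σ s = 1 → s ^ (q + 1) = 1)
    (H : Matrix (Fin m) (Fin m) F) (hH : ∀ i j, σ (H i j) = H j i) (hH0 : H ≠ 0)
    (O : Finset (Matrix (Fin m) (Fin m) F))
    (hO : ∀ A : Matrix (Fin m) (Fin m) F, A.det ≠ 0 → σ A.det = A.det → ct σ A * H * A ∈ O) :
    q ^ (2 * m) - 1 ≤ (q + 1) * O.card := by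
  classical
  obtain ⟨m', rfl⟩ : ∃ m', m = m' + 1 := ⟨m - 1, by omega⟩
  let μ : (Fin (m' + 1) → F) → (Fin (m' + 1) → F) := fun x => (fun i => σ (x i)) ᵥ* H
  have hμadd : ∀ x y, μ (x + y) = μ x + μ y := fun x y => by
    show _ = _ ᵥ* H + _ ᵥ* H
    rw [← add_vecMul]
    exact congrArg (· ᵥ* H) (funext fun i => map_add σ (x i) (y i))
  have hμsmul : ∀ (c : F) x, μ (c • x) = σ c • μ x := fun c x => by
    show _ = σ c • (_ ᵥ* H)
    rw [← smul_vecMul]
    exact congrArg (· ᵥ* H) (funext fun i => map_mul σ c (x i))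
  have hsw : ∀ x y, μ x ⬝ᵥ y = σ (μ y ⬝ᵥ x) := fun x y => by
    simp only [μ, dotProduct, vecMul, Finset.sum_mul, map_sum, map_mul, hinv]
    rw [Finset.sum_comm]
    refine Finset.sum_congr rfl fun i _ => Finset.sum_congr rfl fun j _ => ?_
    rw [hH]
    ring
  have hq : 2 ≤ q := by
    rcases q with _ | _ | q
    · simp at hF
    · have := Fintype.one_lt_card (α := F); omega
    · omega
  have hq1 : q + 1 ≤ q ^ 2 := by nlinarith
  obtain ⟨e0, he0⟩ : ∃ x, μ x ≠ 0 := by
    by_contra hcon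
    push Not at hcon
    refine hH0 (Matrix.ext fun i j => ?_)
    have h := congrFun (hcon (Pi.single i 1)) j
    have hfun : (fun l => σ ((Pi.single i 1 : Fin (m' + 1) → F) l)) = Pi.single i 1 := by
      funext l; rcases eq_or_ne l i with rfl | hne <;> simp [*]
    simpa [μ, hfun] using h
  by_cases hiso : ∃ e, μ e ⬝ᵥ e = 0 ∧ μ e ≠ 0
  · obtain ⟨e, hee, hμe⟩ := hiso
    obtain ⟨f, hf, -⟩ := exists_dual hμe hμe
    rw [dotProduct_comm] at hf
    -- every fixed value is taken outside the radical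
    have hval : ∀ a : F, σ a = a → ∃ x, x ≠ 0 ∧ μ x ≠ 0 ∧ μ x ⬝ᵥ x = a := by
      intro a ha
      rcases eq_or_ne a 0 with rfl | ha0
      · exact ⟨e, fun h => hμe (by rw [h]; funext i; simp [μ, vecMul, dotProduct]), hμe, hee⟩
      set b := μ f ⬝ᵥ f with hb
      set t := d0 * (a - b) with ht
      refine ⟨f + t • e, ?_⟩
      have hval : μ (f + t • e) ⬝ᵥ (f + t • e) = a := by
        have hbfix : σ b = b := (hsw f f).symm
        simp only [hμadd, hμsmul, add_dotProduct, dotProduct_add, smul_dotProduct, dotProduct_smul, smul_eq_mul,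
          hee, hf, hsw f e, map_one, ← hb]
        rw [ht, map_mul, map_sub, ha, hbfix]
        linear_combination (a - b) * hd0
      have hμn : μ (f + t • e) ≠ 0 := fun h => ha0 (by rw [← hval, h, zero_dotProduct])
      exact ⟨fun h => hμn (by rw [h]; funext i; simp [μ, vecMul, dotProduct]), hμn, hval⟩
    let v : Fin (m' + 1) → F := Pi.single 0 1
    have hv : v ≠ 0 := by simp [v]
    have hv0 : ∀ φ : Fin (m' + 1) → F, φ ⬝ᵥ v = φ 0 := fun φ => by simp [v]
    let Ψ : Matrix (Fin (m' + 1)) (Fin (m' + 1)) F → (Fin (m' + 1) → F) := fun H' => (fun i => σ (v i)) ᵥ* H'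
    have hΨ : ∀ A, Ψ (ct σ A * H * A) = μ (A *ᵥ v) ᵥ* A := fun A => vecMul_ct A H v
    set T1 := Finset.univ.filter fun φ : Fin (m' + 1) → F => φ 0 ≠ 0 ∧ σ (φ 0) = φ 0 with hT1
    set T0 := Finset.univ.filter fun φ : Fin (m' + 1) → F => φ 0 = 0 ∧ φ ≠ 0 with hT0
    set R := (O.image Ψ).filter fun φ => φ 0 = 0 ∧ φ ≠ 0 with hR
    set Fq := Finset.univ.filter fun r : F => r ≠ 0 ∧ σ r = r with hFq
    have h1 : T1 ⊆ O.image Ψ := by
      intro φ hφ
      obtain ⟨-, hφ0, hφσ⟩ := Finset.mem_filter.1 hφ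
      obtain ⟨x, hx0, hμx, hxa⟩ := hval _ hφσ
      obtain ⟨A, hA, hAv, hμA⟩ := exists_pair_map hv hx0 hμx (fun h => hφ0 (by rw [h]; rfl))
        (hxa.trans (hv0 φ).symm)
      obtain ⟨D, hD, hDx, hμD⟩ := exists_det_fix (μ := μ x) (x := x) (by simpa using hm)
        (by rw [hxa]; exact hφ0) A.det⁻¹
      refine Finset.mem_image.2 ⟨_, hO (D * A) ?_ ?_, ?_⟩
      · rw [det_mul, hD, inv_mul_cancel₀ hA]; exact one_ne_zero
      · rw [det_mul, hD, inv_mul_cancel₀ hA, map_one]
      · rw [hΨ, ← mulVec_mulVec, hAv, hDx, ← vecMul_vecMul, hμD, hμA]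
    have h0 : ∀ φ ∈ T0, ∃ s : F, s ≠ 0 ∧ ∀ r ∈ Fq, (r * s) • φ ∈ R := by
      intro φ hφ
      obtain ⟨-, hφ0, hφn⟩ := Finset.mem_filter.1 hφ
      have hex : μ e ≠ 0 := hμe
      obtain ⟨A, hA, hAv, hμA⟩ := exists_pair_map hv
        (show e ≠ 0 from fun h => hμe (by rw [h]; funext i; simp [μ, vecMul, dotProduct]))
        hex hφn (by rw [hee, hv0, hφ0])
      refine ⟨A.det⁻¹, inv_ne_zero hA, fun r hr => ?_⟩
      obtain ⟨-, hr0, hrσ⟩ := Finset.mem_filter.1 hr
      obtain ⟨D, hD, hDx, hμD⟩ := exists_det_scale hex hee (r * A.det⁻¹)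
      refine Finset.mem_filter.2 ⟨Finset.mem_image.2 ⟨_, hO (D * A) ?_ ?_, ?_⟩, ?_, ?_⟩
      · rw [det_mul, hD, mul_assoc, inv_mul_cancel₀ hA, mul_one]; exact hr0
      · rw [det_mul, hD, mul_assoc, inv_mul_cancel₀ hA, mul_one, hrσ]
      · rw [hΨ, ← mulVec_mulVec, hAv, hDx, ← vecMul_vecMul, hμD, smul_vecMul, hμA]
      · simp [hφ0]
      · exact smul_ne_zero (mul_ne_zero hr0 (inv_ne_zero hA)) hφn
    choose s hs0 hs using h0
    have hcount : T0.card * Fq.card ≤ R.card * (Finset.univ.erase (0 : F)).card := by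
      rw [← Finset.card_product, ← Finset.card_product]
      refine Finset.card_le_card_of_injOn
        (fun p => if h : p.1 ∈ T0 then ((p.2 * s p.1 h) • p.1, p.2 * s p.1 h) else (0, 0)) ?_ ?_
      · intro p hp
        obtain ⟨hp1, hp2⟩ := Finset.mem_product.1 hp
        simp only [dif_pos hp1]
        refine Finset.mem_product.2 ⟨hs _ hp1 _ hp2, Finset.mem_erase.2 ⟨?_, Finset.mem_univ _⟩⟩
        exact mul_ne_zero (Finset.mem_filter.1 hp2).2.1 (hs0 _ hp1)
      · intro p hp p' hp' he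
        obtain ⟨hp1, hp2⟩ := Finset.mem_product.1 hp
        obtain ⟨hp1', hp2'⟩ := Finset.mem_product.1 hp'
        simp only [dif_pos hp1, dif_pos hp1', Prod.mk.injEq] at he
        obtain ⟨e1, e2⟩ := he
        rw [← e2] at e1
        have e3 : p.1 = p'.1 :=
          smul_right_injective _ (mul_ne_zero (Finset.mem_filter.1 hp2).2.1 (hs0 _ hp1)) e1
        obtain ⟨a, b⟩ := p
        obtain ⟨a', b'⟩ := p'
        obtain rfl : a = a' := e3
        exact Prod.ext rfl (mul_right_cancel₀ (hs0 _ hp1) e2)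
    have hfix := card_fix hF hinv c0 hc0 hskew d0 hd0
    have hFqc : Fq.card = q - 1 := by
      rw [hFq, ← hfix, show (Finset.univ.filter fun r : F => r ≠ 0 ∧ σ r = r) =
        (Finset.univ.filter fun r : F => σ r = r).erase 0 by ext r; simp]
      rw [Finset.card_erase_of_mem (by simp)]
    have hE : (Finset.univ.erase (0 : F)).card = (q - 1) * (q + 1) := by
      rw [Finset.card_erase_of_mem (Finset.mem_univ _), Finset.card_univ, hF]
      obtain ⟨q', rfl⟩ : ∃ q', q = q' + 1 := ⟨q - 1, by omega⟩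
      rw [sq, Nat.add_sub_cancel, show (q' + 1) * (q' + 1) = q' * (q' + 1 + 1) + 1 by ring]
      omega
    have hcons : ∀ P : F → Prop, ∀ [DecidablePred P],
        (Finset.univ.filter fun φ : Fin (m' + 1) → F => P (φ 0)).card =
          (Finset.univ.filter fun a : F => P a).card * q ^ (2 * m') := by
      intro P _
      rw [← Finset.card_map (Fin.consEquiv fun _ : Fin (m' + 1) => F).symm.toEmbedding,
        show Finset.map _ _ = (Finset.univ.filter fun a : F => P a) ×ˢ (Finset.univ : Finset (Fin m' → F)) by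
          ext p
          simp [Fin.consEquiv],
        Finset.card_product, Finset.card_univ, Fintype.card_fun, hF, Fintype.card_fin, pow_mul]
    have hT1c : T1.card = (q - 1) * q ^ (2 * m') := by rw [hT1, hcons fun a => a ≠ 0 ∧ σ a = a, ← hFq, hFqc]
    have hT0c : T0.card = q ^ (2 * m') - 1 := by
      rw [hT0, show (Finset.univ.filter fun φ : Fin (m' + 1) → F => φ 0 = 0 ∧ φ ≠ 0) =
        (Finset.univ.filter fun φ : Fin (m' + 1) → F => φ 0 = 0).erase 0 by
          ext φ; simp only [Finset.mem_filter, Finset.mem_erase, Finset.mem_univ, true_and, ne_eq]; tauto,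
        Finset.card_erase_of_mem (by simp), hcons fun a => a = 0, Finset.filter_eq']
      simp
    have hT0R : T0.card ≤ R.card * (q + 1) := by
      rw [hFqc, hE] at hcount
      exact Nat.le_of_mul_le_mul_right (hcount.trans_eq (by ring)) (by omega)
    have hdisj : Disjoint T1 R := Finset.disjoint_left.2 fun φ hφ hφ' =>
      (Finset.mem_filter.1 hφ).2.1 (Finset.mem_filter.1 hφ').2.1
    have htot : T1.card + R.card ≤ O.card := by
      rw [← Finset.card_union_of_disjoint hdisj]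
      exact (Finset.card_le_card (Finset.union_subset h1 (Finset.filter_subset _ _))).trans Finset.card_image_le
    rw [hT1c] at htot
    rw [hT0c] at hT0R
    have hpow : 1 ≤ q ^ (2 * m') := Nat.one_le_pow _ _ (by omega)
    have key : q ^ (2 * (m' + 1)) = (q + 1) * ((q - 1) * q ^ (2 * m')) + q ^ (2 * m') := by
      obtain ⟨q', rfl⟩ : ∃ q', q = q' + 1 := ⟨q - 1, by omega⟩
      rw [Nat.add_sub_cancel, mul_add, pow_add]
      ring
    calc q ^ (2 * (m' + 1)) - 1 ≤ (q + 1) * ((q - 1) * q ^ (2 * m')) + R.card * (q + 1) := by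
          generalize q ^ (2 * m') = X at *; generalize (q + 1) * ((q - 1) * X) = Y at *; omega
      _ = (q + 1) * ((q - 1) * q ^ (2 * m') + R.card) := by ring
      _ ≤ _ := Nat.mul_le_mul_left _ htot
  · -- rank one
    push Not at hiso
    set μ0 := μ e0 with hμ0
    set a := μ0 ⬝ᵥ e0 with ha
    have ha0 : a ≠ 0 := fun h => he0 (hiso e0 h)
    have haσ : σ a = a := (hsw e0 e0).symm
    have hrank : ∀ x, μ x = σ (μ0 ⬝ᵥ x / a) • μ0 := by
      intro x
      obtain ⟨y, hy⟩ : ∃ y, y = x - (μ0 ⬝ᵥ x / a) • e0 := ⟨_, rfl⟩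
      have hby : μ0 ⬝ᵥ y = 0 := by
        rw [hy, dotProduct_sub, dotProduct_smul, smul_eq_mul, ← ha, div_mul_cancel₀ _ ha0, sub_self]
      have hyx : μ y ⬝ᵥ e0 = 0 := by rw [hsw, hby, map_zero]
      have hyy : μ y ⬝ᵥ y = 0 := by
        by_contra hc
        set c := μ y ⬝ᵥ y with hcdef
        have hcσ : σ c = c := (hsw y y).symm
        obtain ⟨t, ht⟩ := hnorm (-(a / c)) (by rw [map_neg, map_div₀, haσ, hcσ])
        have hz : μ (e0 + t • y) ⬝ᵥ (e0 + t • y) = 0 := by
          simp only [hμadd, hμsmul, add_dotProduct, dotProduct_add, smul_dotProduct, dotProduct_smul, smul_eq_mul,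
            ← hμ0, ← ha, hby, hyx, ← hcdef]
          have htc : t * σ t * c = -a := by rw [ht]; field_simp
          linear_combination htc
        have h' := congrArg (· ⬝ᵥ e0) (hiso _ hz)
        simp only [hμadd, hμsmul, add_dotProduct, smul_dotProduct, zero_dotProduct, ← hμ0, ← ha, hyx, smul_zero,
          add_zero] at h'
        exact ha0 h'
      have := hiso y hyy
      rw [show x = y + (μ0 ⬝ᵥ x / a) • e0 by rw [hy]; abel, hμadd, hμsmul, this, zero_add]
      rw [dotProduct_add, hby, dotProduct_smul, smul_eq_mul, ← ha, zero_add, div_mul_cancel₀ _ ha0, ← hμ0]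
    have hHij : ∀ i j, H i j = σ (μ0 i) * μ0 j / a := by
      intro i j
      have h := congrFun (hrank (Pi.single i 1)) j
      have hfun : (fun l => σ ((Pi.single i 1 : Fin (m' + 1) → F) l)) = Pi.single i 1 := by
        funext l; rcases eq_or_ne l i with rfl | hne <;> simp [*]
      simp only [μ, hfun, single_one_vecMul, Pi.smul_apply, smul_eq_mul, dotProduct_single, mul_one, map_div₀,
        haσ] at h
      rw [← hμ0] at *
      rw [show H i j = H.row i j from rfl, h]
      ring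
    let Θ : (Fin (m' + 1) → F) → Matrix (Fin (m' + 1)) (Fin (m' + 1)) F := fun φ =>
      Matrix.of fun i j => σ (φ i) * φ j / a
    have hΘ : ∀ A : Matrix (Fin (m' + 1)) (Fin (m' + 1)) F, ct σ A * H * A = Θ (μ0 ᵥ* A) := by
      intro A
      ext i j
      simp only [Θ, Matrix.of_apply, Matrix.mul_apply, ct, Matrix.map_apply, Matrix.transpose_apply, hHij, vecMul,
        dotProduct, map_sum, map_mul, Finset.sum_mul, Finset.mul_sum, Finset.sum_div]
      refine Finset.sum_congr rfl fun l _ => Finset.sum_congr rfl fun k _ => ?_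
      ring
    have hmem : ∀ φ, φ ≠ 0 → Θ φ ∈ O := by
      intro φ hφ
      have hμ0ne : μ0 ≠ 0 := he0
      obtain ⟨i, hi⟩ := Function.ne_iff.1 hφ
      obtain ⟨A, hA, -, hμA⟩ := exists_pair_map (v := Pi.single i (a / φ i)) (x := e0)
        (by simpa [ha0] using hi) (fun h => ha0 (by rw [ha, h, dotProduct_zero])) hμ0ne hφ
        (by rw [← ha, dotProduct_single]; exact (mul_div_cancel₀ a hi).symm)
      obtain ⟨D, hD, -, hμD⟩ := exists_det_fix (μ := μ0) (x := e0) (by simpa using hm) ha0 A.det⁻¹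
      have hdet : (D * A).det = 1 := by rw [det_mul, hD, inv_mul_cancel₀ hA]
      have := hO (D * A) (by rw [hdet]; exact one_ne_zero) (by rw [hdet, map_one])
      rwa [hΘ, ← vecMul_vecMul, hμD, hμA] at this
    have hcard := Finset.card_le_mul_card_image (f := Θ)
      (Finset.univ.filter fun φ : Fin (m' + 1) → F => φ ≠ 0) (q + 1) (fun l hl => ?_)
    · rw [Finset.filter_ne', Finset.card_erase_of_mem (Finset.mem_univ _), Finset.card_univ, Fintype.card_fun,
        Fintype.card_fin, hF, ← pow_mul] at hcard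
      refine hcard.trans (Nat.mul_le_mul_left _ (Finset.card_le_card ?_))
      intro l hl
      obtain ⟨φ, hφ, rfl⟩ := Finset.mem_image.1 hl
      exact hmem φ (Finset.ne_of_mem_erase hφ)
    · obtain ⟨φ, hφ, rfl⟩ := Finset.mem_image.1 hl
      simp only [Finset.mem_filter, Finset.mem_univ, true_and] at hφ
      obtain ⟨i, hi⟩ := Function.ne_iff.1 hφ
      rw [Pi.zero_apply] at hi
      refine (Finset.card_le_card (t := (Polynomial.nthRoots (q + 1) (1 : F)).toFinset.image fun s => s • φ)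
        fun φ' hφ' => ?_).trans (Finset.card_image_le.trans ((Multiset.toFinset_card_le _).trans
          (Polynomial.card_nthRoots _ _)))
      simp only [Finset.mem_filter, Finset.mem_univ, true_and] at hφ'
      have he : ∀ j k, σ (φ' j) * φ' k = σ (φ j) * φ k := fun j k =>
        (div_left_inj' ha0).1 (congrFun (congrFun hφ'.2 j) k)
      have hsi : σ (φ i) ≠ 0 := (map_ne_zero σ).2 hi
      have hN' : φ' i / φ i * σ (φ' i / φ i) = 1 := by
        rw [map_div₀, div_mul_div_comm, mul_comm, he i i, mul_comm]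
        exact div_self (mul_ne_zero hi hsi)
      refine Finset.mem_image.2 ⟨φ' i / φ i, ?_, funext fun j => ?_⟩
      · rw [Multiset.mem_toFinset, Polynomial.mem_nthRoots (by omega)]
        exact hN _ hN'
      · have h1 := he i j
        have hs' : σ (φ' i) ≠ 0 := fun h => (one_ne_zero : (1:F) ≠ 0) (by rw [← hN', map_div₀, h, zero_div, mul_zero])
        have h2 := he i i
        rw [Pi.smul_apply, smul_eq_mul]
        refine mul_left_cancel₀ hs' ?_
        rw [h1]
        field_simp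
        linear_combination φ j * h2

end CfsgLib.RadicalBound
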