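import Mathlib
import Cfsg.Agent.Lib.RadicalBound.HermOrbit

/-! Orbits on quadratic forms with non-zero polar form in characteristic two are large. -/

set_option autoImplicit false
set_option maxHeartbeats 800000

namespace CfsgLib.RadicalBound

open Matrix

variable {F : Type*} [Field F] [Fintype F] [DecidableEq F]

/-- Ordered independent pairs. -/
def liPairs (F : Type*) [Field F] [Fintype F] [DecidableEq F] (n : ℕ) :
    Finset ((_ : Fin n → F) × (Fin n → F)) :=
  (Finset.univ.erase 0).sigma fun φ => Finset.univ \ Finset.univ.image (fun c : F => c • φ)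

theorem card_liPairs (n : ℕ) :
    (liPairs F n).card = (Fintype.card F ^ n - 1) * (Fintype.card F ^ n - Fintype.card F) := by
  rw [liPairs, Finset.card_sigma, Finset.sum_congr rfl fun φ hφ => by
    rw [Finset.card_sdiff_of_subset (Finset.subset_univ _),
      Finset.card_image_of_injective _ (smul_left_injective F (Finset.ne_of_mem_erase hφ)),
      Finset.card_univ, Finset.card_univ, Fintype.card_fun, Fintype.card_fin]]
  rw [Finset.sum_const, smul_eq_mul, Finset.card_erase_of_mem (Finset.mem_univ _), Finset.card_univ,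
    Fintype.card_fun, Fintype.card_fin]

theorem mem_liPairs {n : ℕ} (p : (_ : Fin n → F) × (Fin n → F)) :
    p ∈ liPairs F n ↔ p.1 ≠ 0 ∧ ∀ c : F, p.2 ≠ c • p.1 := by
  simp [liPairs, eq_comm]

theorem exists_rows {l : ℕ} {φ ν : Fin (l + 2) → F} (hφ : φ ≠ 0) (hν : ∀ c : F, ν ≠ c • φ) :
    ∃ G : Matrix (Fin (l + 2)) (Fin (l + 2)) F, G.det ≠ 0 ∧ G 0 = φ ∧ G 1 = ν := by
  set e0 : Fin (l + 2) → F := Pi.single 0 1 with he0
  set e1 : Fin (l + 2) → F := Pi.single 1 1 with he1
  have he : e0 ≠ 0 := by simp [e0]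
  obtain ⟨r, hr1, hr2⟩ := exists_dual he hφ
  set A : Matrix (Fin (l + 2)) (Fin (l + 2)) F := 1 + vecMulVec r (φ - e0) with hA
  have hAdet : A.det ≠ 0 := by
    rw [hA, det_one_add_vec, sub_dotProduct, dotProduct_comm e0 r, hr1, dotProduct_comm φ r, add_sub_cancel]
    exact hr2
  have hA0 : e0 ᵥ* A = φ := by
    rw [hA, vecMul_add, vecMul_one, vecMul_vecMulVec, dotProduct_comm e0 r, hr1, one_smul, add_sub_cancel]
  set ν' := ν ᵥ* A⁻¹ with hν'
  have hback : ν' ᵥ* A = ν := by
    rw [hν', vecMul_vecMul, nonsing_inv_mul _ (isUnit_iff_ne_zero.2 hAdet), vecMul_one]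
  obtain ⟨j, hj0, hj⟩ : ∃ j, j ≠ 0 ∧ ν' j ≠ 0 := by
    by_contra hcon
    push Not at hcon
    refine hν (ν' 0) ?_
    have : ν' = ν' 0 • e0 := funext fun j => by
      rcases eq_or_ne j 0 with rfl | hj
      · simp [e0]
      · simp [e0, hj, hcon j hj]
    rw [← hback, ← hA0, ← smul_vecMul, ← this]
  obtain ⟨s, hs0, hs1, hs2⟩ : ∃ s : Fin (l + 2) → F, s ⬝ᵥ e0 = 0 ∧ s ⬝ᵥ e1 = 1 ∧ s ⬝ᵥ ν' ≠ 0 := by
    by_cases h1 : ν' 1 = 0
    · have hj1 : j ≠ 1 := fun h => hj (h ▸ h1)
      exact ⟨e1 + Pi.single j 1, by simp [e0, e1, hj0.symm], by simp [e1, hj1.symm],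
        by simp [e1, add_dotProduct, h1, hj]⟩
    · exact ⟨e1, by simp [e0, e1], by simp [e1], by simpa [e1] using h1⟩
  set B : Matrix (Fin (l + 2)) (Fin (l + 2)) F := 1 + vecMulVec s (ν' - e1) with hB
  have hB0 : e0 ᵥ* B = e0 := by
    rw [hB, vecMul_add, vecMul_one, vecMul_vecMulVec, dotProduct_comm e0 s, hs0, zero_smul, add_zero]
  have hB1 : e1 ᵥ* B = ν' := by
    rw [hB, vecMul_add, vecMul_one, vecMul_vecMulVec, dotProduct_comm e1 s, hs1, one_smul, add_sub_cancel]
  refine ⟨B * A, ?_, ?_, ?_⟩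
  · rw [det_mul, hB, det_one_add_vec, sub_dotProduct, dotProduct_comm e1 s, hs1, dotProduct_comm ν' s,
      add_sub_cancel]
    exact mul_ne_zero hs2 hAdet
  · have h := single_one_vecMul (0 : Fin (l + 2)) (B * A)
    rw [Matrix.row] at h
    rw [← h, ← vecMul_vecMul, ← he0, hB0, hA0]
  · have h := single_one_vecMul (1 : Fin (l + 2)) (B * A)
    rw [Matrix.row] at h
    rw [← h, ← vecMul_vecMul, ← he1, hB1, hback]

/-- Orbits of quadratic forms with non-zero polar form are large. -/
theorem orbit_quad {l : ℕ} (h2 : (2 : F) = 0) (Q : (Fin (l + 2) → F) → F)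
    (B : (Fin (l + 2) → F) →ₗ[F] (Fin (l + 2) → F) →ₗ[F] F)
    (hadd : ∀ x y, Q (x + y) = Q x + Q y + B x y) (hsm : ∀ (c : F) x, Q (c • x) = c * c * Q x)
    (hB : B ≠ 0) (O : Finset ((Fin (l + 2) → F) → F))
    (hO : ∀ g : Matrix (Fin (l + 2)) (Fin (l + 2)) F, g.det ≠ 0 → (fun x => Q (g *ᵥ x)) ∈ O) :
    (Fintype.card F ^ (l + 2) - 1) * (Fintype.card F ^ (l + 2) - Fintype.card F) ≤
      2 * (Fintype.card F + 1) * O.card := by
  classical
  haveI : CharP F 2 := CharTwo.of_one_ne_zero_of_two_eq_zero one_ne_zero h2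
  have hq : 2 ≤ Fintype.card F := Fintype.one_lt_card
  have hsymm : ∀ x y, B x y = B y x := fun x y => by
    have e1 := hadd x y
    have e2 := hadd y x
    rw [add_comm y x] at e2
    linear_combination e2 - e1
  have hself : ∀ x, B x x = 0 := fun x => by
    have e1 := hadd x x
    rw [← two_smul F, h2, hsm] at e1
    linear_combination -e1 - Q x * h2
  have hsqrt : ∀ a : F, ∃ b, b * b = a := fun a => by
    obtain ⟨b, hb⟩ := (FiniteField.isSquare_of_char_two (ringChar.eq F 2) a)
    exact ⟨b, hb.symm⟩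
  by_cases hhyp : ∃ u w, Q u = 0 ∧ B u w ≠ 0
  · obtain ⟨u, w, hu, huw⟩ := hhyp
    -- a hyperbolic pair
    obtain ⟨v, hv, huv⟩ : ∃ v, Q v = 0 ∧ B u v = 1 := by
      refine ⟨(B u w)⁻¹ • w + ((B u w)⁻¹ * (B u w)⁻¹ * Q w) • u, ?_, ?_⟩
      · rw [hadd, hsm, hsm, hu]
        simp only [map_smul, LinearMap.smul_apply, smul_eq_mul, hsymm w u]
        field_simp
        linear_combination Q w * (B u w) ^ 2 * h2
      · simp only [map_add, map_smul, smul_eq_mul, hself]
        field_simp
        ring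
    have hu0 : u ≠ 0 := fun h => by rw [h, map_zero, LinearMap.zero_apply] at huv; exact zero_ne_one huv
    have hvu : ∀ c : F, v ≠ c • u := fun c h => by
      rw [h, map_smul, hself, smul_zero] at huv; exact zero_ne_one huv
    obtain ⟨G, hG, hG0, hG1⟩ := exists_rows hu0 hvu
    obtain ⟨Gr, hGr⟩ : ∃ Gr : Fin (l + 2) → (Fin (l + 2) → F), ∀ i, G i = Gr i := ⟨fun i => G i, fun _ => rfl⟩
    let Ψ : ((Fin (l + 2) → F) → F) → (F × F × F) × (Fin l → F × F) := fun Q' =>
      let B' := fun x y => Q' (x + y) - Q' x - Q' y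
      ((Q' (Pi.single 0 1), Q' (Pi.single 1 1), B' (Pi.single 0 1) (Pi.single 1 1)),
        fun j => (B' (Pi.single 0 1) (Pi.single j.succ.succ 1), B' (Pi.single 1 1) (Pi.single j.succ.succ 1)))
    let tr : ((_ : Fin 2 → F) × (Fin 2 → F)) → F × F × F := fun p =>
      (p.1 0 * p.1 1, p.2 0 * p.2 1, p.1 0 * p.2 1 + p.1 1 * p.2 0)
    have hD : ∀ p ∈ liPairs F 2, p.1 0 * p.2 1 + p.1 1 * p.2 0 ≠ 0 := by
      intro p hp h
      obtain ⟨hp1, hp2⟩ := (mem_liPairs p).1 hp
      by_cases h0 : p.1 0 = 0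
      · have h1 : p.1 1 ≠ 0 := fun h1 => hp1 (funext fun i => by fin_cases i <;> simp [h0, h1])
        refine hp2 (p.2 1 / p.1 1) (funext fun i => ?_)
        rw [h0, zero_mul, zero_add] at h
        fin_cases i <;> simp [h0, (mul_eq_zero.1 h).resolve_left h1]
        field_simp
      · refine hp2 (p.2 0 / p.1 0) (funext fun i => ?_)
        fin_cases i <;> simp <;> field_simp
        linear_combination h - p.2 0 * p.1 1 * h2
    have hsub : ((liPairs F 2).image tr) ×ˢ (Finset.univ : Finset (Fin l → F × F)) ⊆ O.image Ψ := by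
      intro T hT
      obtain ⟨hT1, -⟩ := Finset.mem_product.1 hT
      obtain ⟨p, hp, hpT⟩ := Finset.mem_image.1 hT1
      set D := p.1 0 * p.2 1 + p.1 1 * p.2 0 with hDdef
      have hD0 : D ≠ 0 := hD p hp
      let c := p.1 0 • u + p.1 1 • v
      let d := p.2 0 • u + p.2 1 • v
      let r : Fin l → F := fun j => (T.2 j).1 - B c (Gr j.succ.succ)
      let s : Fin l → F := fun j => (T.2 j).2 - B d (Gr j.succ.succ)
      let α : Fin l → F := fun j => (p.2 0 * r j + p.1 0 * s j) / D
      let β : Fin l → F := fun j => (p.2 1 * r j + p.1 1 * s j) / D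
      let cols : Fin (l + 2) → (Fin (l + 2) → F) :=
        Fin.cons c (Fin.cons d fun j => Gr j.succ.succ + α j • u + β j • v)
      let g : Matrix (Fin (l + 2)) (Fin (l + 2)) F := (Matrix.of cols)ᵀ
      have hc0 : cols 0 = c := rfl
      have hc1 : cols 1 = d := rfl
      have hcj : ∀ j : Fin l, cols j.succ.succ = Gr j.succ.succ + α j • u + β j • v := fun j => by simp [cols]
      have hrow : ∀ i, Matrix.of cols i = cols i := fun _ => rfl
      have hg : ∀ i, g *ᵥ Pi.single i 1 = cols i := fun i => by rw [mulVec_single_one]; rfl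
      have hdet : g.det ≠ 0 := by
        rw [det_transpose, ← isUnit_iff_ne_zero, ← isUnit_iff_isUnit_det, ← vecMul_injective_iff_isUnit]
        intro x y hxy
        set z := x - y with hz
        have h0 : z ᵥ* Matrix.of cols = 0 := by rw [hz, sub_vecMul, sub_eq_zero]; exact hxy
        have hfac : Fin.cons (z 0 * p.1 0 + z 1 * p.2 0 + ∑ j : Fin l, z j.succ.succ * α j)
            (Fin.cons (z 0 * p.1 1 + z 1 * p.2 1 + ∑ j : Fin l, z j.succ.succ * β j)
              fun j => z j.succ.succ) ᵥ* G = z ᵥ* Matrix.of cols := by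
          rw [vecMul_eq_sum, vecMul_eq_sum, Fin.sum_univ_succ, Fin.sum_univ_succ, Fin.sum_univ_succ,
            Fin.sum_univ_succ]
          simp only [Fin.succ_zero_eq_one, hrow, hc0, hc1, hcj, hG0, hG1, hGr _, Fin.cons_zero, Fin.cons_succ,
            Fin.cons_one, c, d, add_smul, Finset.sum_smul, smul_add, smul_smul, Finset.sum_add_distrib]
          abel
        have hinj := vecMul_injective_iff_isUnit.2 ((isUnit_iff_isUnit_det G).2 (isUnit_iff_ne_zero.2 hG))
        rw [h0, ← zero_vecMul G] at hfac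
        have hz0 := hinj hfac
        have hj : ∀ j : Fin l, z j.succ.succ = 0 := fun j => by
          simpa using congrFun hz0 j.succ.succ
        have ha := congrFun hz0 0
        have hb := congrFun hz0 1
        rw [← Fin.succ_zero_eq_one] at hb
        simp [hj] at ha hb
        have hz00 : z 0 = 0 := by
          refine (mul_eq_zero.1 (?_ : z 0 * D = 0)).resolve_right hD0
          rw [hDdef]
          linear_combination p.2 1 * ha + p.2 0 * hb - z 1 * p.2 0 * p.2 1 * h2
        have hz01 : z 1 = 0 := by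
          refine (mul_eq_zero.1 (?_ : z 1 * D = 0)).resolve_right hD0
          rw [hDdef]
          linear_combination p.1 1 * ha + p.1 0 * hb - z 0 * p.1 0 * p.1 1 * h2
        refine sub_eq_zero.1 (funext fun i => ?_)
        rw [← hz]
        refine Fin.cases hz00 (fun i => ?_) i
        exact Fin.cases (by rw [Fin.succ_zero_eq_one]; exact hz01) hj i
      refine Finset.mem_image.2 ⟨_, hO g hdet, ?_⟩
      have hB' : ∀ x y, Q (x + y) - Q x - Q y = B x y := fun x y => by
        rw [hadd]; ring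
      have hQc : ∀ a b : F, Q (a • u + b • v) = a * b := fun a b => by
        rw [hadd, hsm, hsm, hu, hv]
        simp [huv]
        ring
      refine Prod.ext (Prod.ext ?_ (Prod.ext ?_ ?_)) (funext fun j => Prod.ext ?_ ?_) <;>
        simp only [Ψ, mulVec_add, hg, hc0, hc1, hcj, hB']
      · rw [← hpT, hQc]
      · rw [← hpT, hQc]
      · rw [← hpT]
        simp [c, d, tr, huv, hsymm v u, hself]
      · simp only [c, map_add, map_smul, LinearMap.add_apply, LinearMap.smul_apply, smul_eq_mul, huv,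
          hsymm v u, hself, α, β, r, s]
        field_simp
        rw [hDdef]
        ring_nf
        simp [h2]
      · simp only [d, map_add, map_smul, LinearMap.add_apply, LinearMap.smul_apply, smul_eq_mul, huv,
          hsymm v u, hself, α, β, r, s]
        field_simp
        rw [hDdef]
        ring_nf
        simp [h2]
    have hfib := Finset.card_le_mul_card_image (f := tr) (liPairs F 2) (2 * (Fintype.card F - 1)) (fun t ht => by
      obtain ⟨p, hp, rfl⟩ := Finset.mem_image.1 ht
      have hD0 := hD p hp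
      set D := p.1 0 * p.2 1 + p.1 1 * p.2 0 with hDdef
      let N : ((_ : Fin 2 → F) × (Fin 2 → F)) → (F × F) × (F × F) := fun p' =>
        (((p.2 1 * p'.1 0 + p.1 1 * p'.2 0) / D, (p.2 1 * p'.1 1 + p.1 1 * p'.2 1) / D),
          ((p.1 0 * p'.2 0 + p.2 0 * p'.1 0) / D, (p.1 0 * p'.2 1 + p.2 0 * p'.1 1) / D))
      let U := Finset.univ.erase (0 : F)
      have hU : (U.image (fun a => (((a, 0), (0, a⁻¹)) : (F × F) × (F × F))) ∪
          U.image (fun a => (((0, a), (a⁻¹, 0)) : (F × F) × (F × F)))).card ≤ 2 * (Fintype.card F - 1) := by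
        refine (Finset.card_union_le _ _).trans ((Nat.add_le_add Finset.card_image_le Finset.card_image_le).trans ?_)
        rw [Finset.card_erase_of_mem (Finset.mem_univ _), Finset.card_univ, two_mul]
      refine le_trans (Finset.card_le_card_of_injOn N ?_ ?_) hU
      · intro p' hp'
        obtain ⟨-, hp'⟩ := Finset.mem_filter.1 hp'
        simp only [tr, Prod.mk.injEq] at hp'
        obtain ⟨ha, hb, he⟩ := hp'
        rcases hN : N p' with ⟨⟨A, C⟩, ⟨B1, E⟩⟩
        simp only [N, Prod.mk.injEq] at hN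
        obtain ⟨⟨hA, hC⟩, hB1, hE⟩ := hN
        rw [div_eq_iff hD0] at hA hC hB1 hE
        have hAC : A * C = 0 := by
          refine (mul_eq_zero.1 (?_ : A * C * (D * D) = 0)).resolve_right (mul_ne_zero hD0 hD0)
          linear_combination (norm := (simp only [hDdef]; ring1)) -(C * D) * hA - (p.2 1 * p'.1 0 + p.1 1 * p'.2 0) * hC +
            p.2 1 * p.2 1 * ha + p.1 1 * p.1 1 * hb + p.2 1 * p.1 1 * he +
            (p.1 0 * p.1 1 * p.2 1 * p.2 1 + p.1 1 * p.1 1 * p.2 0 * p.2 1) * h2
        have hBE : B1 * E = 0 := by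
          refine (mul_eq_zero.1 (?_ : B1 * E * (D * D) = 0)).resolve_right (mul_ne_zero hD0 hD0)
          linear_combination (norm := (simp only [hDdef]; ring1)) -(E * D) * hB1 - (p.1 0 * p'.2 0 + p.2 0 * p'.1 0) * hE +
            p.2 0 * p.2 0 * ha + p.1 0 * p.1 0 * hb + p.1 0 * p.2 0 * he +
            (p.1 0 * p.1 0 * p.2 0 * p.2 1 + p.1 0 * p.1 1 * p.2 0 * p.2 0) * h2
        have hAE : A * E + C * B1 = 1 := by
          refine mul_right_cancel₀ (mul_ne_zero hD0 hD0) ?_
          linear_combination (norm := (simp only [hDdef]; ring1)) -(E * D) * hA -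
            (p.2 1 * p'.1 0 + p.1 1 * p'.2 0) * hE - (B1 * D) * hC - (p.2 1 * p'.1 1 + p.1 1 * p'.2 1) * hB1 +
            2 * p.2 0 * p.2 1 * ha + 2 * p.1 0 * p.1 1 * hb + D * he +
            (2 * p.1 0 * p.1 1 * p.2 0 * p.2 1) * h2
        rcases mul_eq_zero.1 hAC with h | h
        · rw [h, zero_mul, zero_add] at hAE
          have hC0 : C ≠ 0 := left_ne_zero_of_mul_eq_one hAE
          have hBi : B1 = C⁻¹ := (inv_eq_of_mul_eq_one_right hAE).symm
          have hE0 : E = 0 := (mul_eq_zero.1 hBE).resolve_left (right_ne_zero_of_mul_eq_one hAE)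
          exact Finset.mem_union_right _ (Finset.mem_image.2 ⟨C, Finset.mem_erase.2 ⟨hC0, Finset.mem_univ _⟩,
            by rw [h, hBi, hE0]⟩)
        · rw [h, zero_mul, add_zero] at hAE
          have hA0 : A ≠ 0 := left_ne_zero_of_mul_eq_one hAE
          have hEi : E = A⁻¹ := (inv_eq_of_mul_eq_one_right hAE).symm
          have hB0 : B1 = 0 := (mul_eq_zero.1 hBE).resolve_right (right_ne_zero_of_mul_eq_one hAE)
          exact Finset.mem_union_left _ (Finset.mem_image.2 ⟨A, Finset.mem_erase.2 ⟨hA0, Finset.mem_univ _⟩,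
            by rw [h, hEi, hB0]⟩)
      · intro a _ b _ hab
        simp only [N, Prod.mk.injEq, div_left_inj' hD0] at hab
        obtain ⟨⟨e1, e2⟩, e3, e4⟩ := hab
        have k0 : a.1 0 = b.1 0 := mul_left_cancel₀ hD0 (by
          linear_combination (norm := (simp only [hDdef]; ring1)) p.1 0 * e1 + p.1 1 * e3 -
            p.1 0 * p.1 1 * (a.2 0 - b.2 0) * h2)
        have k1 : a.1 1 = b.1 1 := mul_left_cancel₀ hD0 (by
          linear_combination (norm := (simp only [hDdef]; ring1)) p.1 0 * e2 + p.1 1 * e4 -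
            p.1 0 * p.1 1 * (a.2 1 - b.2 1) * h2)
        have k2 : a.2 0 = b.2 0 := mul_left_cancel₀ hD0 (by
          linear_combination (norm := (simp only [hDdef]; ring1)) p.2 0 * e1 + p.2 1 * e3 -
            p.2 0 * p.2 1 * (a.1 0 - b.1 0) * h2)
        have k3 : a.2 1 = b.2 1 := mul_left_cancel₀ hD0 (by
          linear_combination (norm := (simp only [hDdef]; ring1)) p.2 0 * e2 + p.2 1 * e4 -
            p.2 0 * p.2 1 * (a.1 1 - b.1 1) * h2)
        obtain ⟨a1, a2⟩ := a
        obtain ⟨b1, b2⟩ := b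
        obtain rfl : a1 = b1 := funext fun i => by fin_cases i <;> assumption
        obtain rfl : a2 = b2 := funext fun i => by fin_cases i <;> assumption
        rfl)
    have hcard := (Finset.card_le_card hsub).trans Finset.card_image_le
    rw [Finset.card_product, Finset.card_univ, Fintype.card_fun, Fintype.card_prod, Fintype.card_fin] at hcard
    rw [card_liPairs] at hfib
    obtain ⟨p, hp⟩ : ∃ p, Fintype.card F = p + 2 := ⟨Fintype.card F - 2, by omega⟩
    rw [hp] at hfib hcard ⊢
    generalize ((liPairs F 2).image tr).card = t at hfib hcard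
    have e2 : ((p + 2) ^ 2 - 1) * ((p + 2) ^ 2 - (p + 2)) = ((p + 1) * (p + 3)) * ((p + 2) * (p + 1)) := by
      rw [show (p + 2) ^ 2 = (p + 1) * (p + 3) + 1 by ring, Nat.add_sub_cancel,
        show (p + 1) * (p + 3) + 1 = (p + 2) * (p + 1) + (p + 2) by ring, Nat.add_sub_cancel]
    rw [e2, show p + 2 - 1 = p + 1 by omega] at hfib
    have ht' : (p + 1) * ((p + 3) * ((p + 2) * (p + 1))) ≤ (p + 1) * (2 * t) :=
      calc _ = (p + 1) * (p + 3) * ((p + 2) * (p + 1)) := by ring
        _ ≤ 2 * (p + 1) * t := hfib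
        _ = _ := by ring
    have ht : (p + 3) * ((p + 2) * (p + 1)) ≤ 2 * t := Nat.le_of_mul_le_mul_left ht' (Nat.succ_pos p)
    have hX : ((p + 2) * (p + 2)) ^ l * ((p + 2) * (p + 2) * (p + 2) * (p + 2)) =
        (p + 2) ^ (l + 2) * (p + 2) ^ (l + 2) := by
      rw [mul_pow]; ring
    calc ((p + 2) ^ (l + 2) - 1) * ((p + 2) ^ (l + 2) - (p + 2))
        ≤ (p + 2) ^ (l + 2) * (p + 2) ^ (l + 2) := Nat.mul_le_mul (Nat.sub_le _ _) (Nat.sub_le _ _)
      _ = ((p + 2) * (p + 2)) ^ l * ((p + 2) * (p + 2) * (p + 2) * (p + 2)) := hX.symm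
      _ ≤ ((p + 2) * (p + 2)) ^ l * ((p + 3) * ((p + 2) * (p + 1)) * (p + 3)) := by
          refine Nat.mul_le_mul_left _ ?_
          nlinarith
      _ ≤ ((p + 2) * (p + 2)) ^ l * (2 * t * (p + 2 + 1)) :=
          Nat.mul_le_mul_left _ (Nat.mul_le_mul_right _ ht)
      _ = 2 * (p + 2 + 1) * (t * ((p + 2) * (p + 2)) ^ l) := by ring
      _ ≤ _ := Nat.mul_le_mul_left _ hcard
  · -- anisotropic
    push Not at hhyp
    obtain ⟨u, w, huw⟩ : ∃ u w, B u w ≠ 0 := by
      by_contra hcon
      push Not at hcon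
      exact hB (LinearMap.ext fun x => LinearMap.ext fun y => hcon x y)
    obtain ⟨v, huv⟩ : ∃ v, B u v = 1 := ⟨(B u w)⁻¹ • w, by rw [map_smul, smul_eq_mul, inv_mul_cancel₀ huw]⟩
    set a := Q u with ha
    set b := Q v with hb
    let q2 : F → F → F := fun s t => s * s * a + t * t * b + s * t
    have hq2 : ∀ s t, Q (s • u + t • v) = q2 s t := fun s t => by
      rw [hadd, hsm, hsm]
      simp [q2, huv, ← ha, ← hb]
      ring
    have haniso : ∀ s t, q2 s t = 0 → s = 0 ∧ t = 0 := fun s t h => by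
      rw [← hq2] at h
      have e1 := hhyp _ u h
      have e2 := hhyp _ v h
      simp [hself, huv, hsymm v u] at e1 e2
      exact ⟨e2, e1⟩
    have ha0 : a ≠ 0 := fun h => one_ne_zero (haniso 1 0 (by simp [q2, h])).1
    have hQ : ∀ x, Q x = q2 (B x v) (B x u) := by
      intro x
      obtain ⟨y, hy⟩ : ∃ y, y = x + (B x v • u + B x u • v) := ⟨_, rfl⟩
      have hyu : B y u = 0 := by
        rw [hy]; simp [hself, hsymm v u, huv]; linear_combination (B x u) * h2
      have hyv : B y v = 0 := by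
        rw [hy]; simp [hself, huv]; linear_combination (B x v) * h2
      have hQy : Q y = 0 := by
        by_contra hne
        obtain ⟨s, hs⟩ := hsqrt (Q y / a)
        have hs0 : s ≠ 0 := fun h => by
          rw [h, mul_zero] at hs
          exact div_ne_zero hne ha0 hs.symm
        have hz : Q (s • u + y) = 0 := by
          rw [hadd, hsm, map_smul, LinearMap.smul_apply, hsymm u y, hyu, smul_zero, add_zero, ← ha, hs,
            div_mul_cancel₀ _ ha0]
          linear_combination Q y * h2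
        have := hhyp _ v hz
        simp [huv, hyv] at this
        exact hs0 this
      have hx : x = y + (B x v • u + B x u • v) := by
        rw [hy, add_assoc, ← two_smul F (B x v • u + B x u • v), h2, zero_smul, add_zero]
      have hcross : B y (B x v • u + B x u • v) = 0 := by simp [hyu, hyv]
      conv_lhs => rw [hx, hadd, hQy, hq2, hcross]
      ring
    have hlin : ∀ z : Fin (l + 2) → F, ∀ x, B x z = (fun i => B (Pi.single i 1) z) ⬝ᵥ x := fun z x => by
      conv_lhs => rw [hsymm, LinearMap.pi_apply_eq_sum_univ (B z) x]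
      rw [dotProduct]
      refine Finset.sum_congr rfl fun i _ => ?_
      rw [smul_eq_mul, mul_comm, hsymm z]
      congr 3
      funext j
      simp [Pi.single_apply, eq_comm]
    set φ0 : Fin (l + 2) → F := fun i => B (Pi.single i 1) v with hφ0
    set ν0 : Fin (l + 2) → F := fun i => B (Pi.single i 1) u with hν0
    have hφne : φ0 ≠ 0 := fun h => by
      have := hlin v u
      rw [← hφ0, h, zero_dotProduct, huv] at this
      exact one_ne_zero this
    have hνφ : ∀ c : F, ν0 ≠ c • φ0 := fun c h => by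
      have h1 := hlin u u
      have h2' := hlin u v
      rw [← hν0, h, smul_dotProduct, ← hlin v u, huv, hself] at h1
      rw [← hν0, h, smul_dotProduct, ← hlin v v, hself, hsymm v u, huv, smul_zero] at h2'
      exact one_ne_zero h2'
    obtain ⟨G, hG, hG0, hG1⟩ := exists_rows hφne hνφ
    have hGu := isUnit_iff_ne_zero.2 hG
    let Θ : ((_ : Fin (l + 2) → F) × (Fin (l + 2) → F)) → ((Fin (l + 2) → F) → F) :=
      fun p x => q2 (p.1 ⬝ᵥ x) (p.2 ⬝ᵥ x)
    have hmem : ∀ p ∈ liPairs F (l + 2), Θ p ∈ O := by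
      intro p hp
      obtain ⟨hp1, hp2⟩ := (mem_liPairs p).1 hp
      obtain ⟨P, hP, hP0, hP1⟩ := exists_rows hp1 hp2
      have := hO (G⁻¹ * P) (by rw [det_mul, det_nonsing_inv, Ring.inverse_eq_inv']; exact mul_ne_zero (inv_ne_zero hG) hP)
      convert this using 1
      funext x
      have hrow : ∀ i, G i ⬝ᵥ ((G⁻¹ * P) *ᵥ x) = P i ⬝ᵥ x := fun i => by
        show (G *ᵥ ((G⁻¹ * P) *ᵥ x)) i = (P *ᵥ x) i
        rw [mulVec_mulVec, ← Matrix.mul_assoc, mul_nonsing_inv _ hGu, Matrix.one_mul]
      rw [hQ, hlin v, hlin u, ← hφ0, ← hν0, ← hG0, ← hG1, hrow, hrow, hP0, hP1]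
    have hfib := Finset.card_le_mul_card_image (f := Θ) (liPairs F (l + 2)) (2 * (Fintype.card F + 1)) (fun t ht => by
      obtain ⟨p, hp, rfl⟩ := Finset.mem_image.1 ht
      obtain ⟨hp1, hp2⟩ := (mem_liPairs p).1 hp
      obtain ⟨P, hP, hP0, hP1⟩ := exists_rows hp1 hp2
      have hPu := isUnit_iff_ne_zero.2 hP
      set z0 := P⁻¹ *ᵥ Pi.single 0 1 with hz0
      set z1 := P⁻¹ *ᵥ Pi.single 1 1 with hz1
      have hpz : ∀ i (j : Fin (l + 2)), P i ⬝ᵥ (P⁻¹ *ᵥ Pi.single j 1) = (Pi.single j 1 : Fin (l + 2) → F) i := by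
        intro i j
        show (P *ᵥ (P⁻¹ *ᵥ Pi.single j 1)) i = _
        rw [mulVec_mulVec, mul_nonsing_inv _ hPu, one_mulVec]
      have hz00 : p.1 ⬝ᵥ z0 = 1 := by rw [← hP0, hz0, hpz]; simp
      have hz01 : p.2 ⬝ᵥ z0 = 0 := by rw [← hP1, hz0, hpz]; simp
      have hz10 : p.1 ⬝ᵥ z1 = 0 := by rw [← hP0, hz1, hpz]; simp
      have hz11 : p.2 ⬝ᵥ z1 = 1 := by rw [← hP1, hz1, hpz]; simp
      let C1 := Finset.univ.filter fun c : F × F => q2 c.1 c.2 = a
      let S := (Finset.univ : Finset ((F × F) × (F × F))).filter fun c =>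
        q2 c.1.1 c.1.2 = a ∧ q2 c.2.1 c.2.2 = b ∧ c.1.1 * c.2.2 + c.1.2 * c.2.1 = 1
      have hC1 : C1.card ≤ Fintype.card F + 1 := by
        rw [← Fintype.card_option (α := F), ← Finset.card_univ]
        refine Finset.card_le_card_of_injOn (fun c => if c.2 = 0 then none else some (c.1 / c.2))
          (fun _ _ => Finset.mem_univ _) ?_
        intro c hc d hd h
        have hc' : q2 c.1 c.2 = a := (Finset.mem_filter.1 hc).2
        have hd' : q2 d.1 d.2 = a := (Finset.mem_filter.1 hd).2
        have hsqinj : ∀ x y : F, x * x = y * y → x = y := fun x y h => by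
          have h' : (x - y) * (x - y) = 0 := by linear_combination h + (y * y - x * y) * h2
          exact sub_eq_zero.1 (mul_self_eq_zero.1 h')
        by_cases h0 : c.2 = 0 <;> by_cases h1 : d.2 = 0 <;> simp [h0, h1] at h
        · refine Prod.ext (hsqinj _ _ (mul_right_cancel₀ ha0 ?_)) (h0.trans h1.symm)
          simp [q2, h0] at hc'; simp [q2, h1] at hd'
          linear_combination hc' - hd'
        · have e : ∀ e : F × F, e.2 ≠ 0 → q2 e.1 e.2 = e.2 * e.2 * q2 (e.1 / e.2) 1 := fun e he => by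
            simp only [q2]; field_simp
          have hne : q2 (c.1 / c.2) 1 ≠ 0 := fun h => one_ne_zero (haniso _ _ h).2
          have h2c : c.2 = d.2 := hsqinj _ _ (mul_right_cancel₀ hne (by
            rw [← e c h0]
            conv_rhs => rw [h, ← e d h1]
            rw [hc', hd']))
          refine Prod.ext ?_ h2c
          rw [h2c] at h
          exact (div_left_inj' h1).1 h
      have hS : S.card ≤ 2 * (Fintype.card F + 1) := by
        refine (Finset.card_le_mul_card_image (f := Prod.fst) S 2 fun c hc => ?_).trans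
          (Nat.mul_le_mul_left _ ((Finset.card_le_card fun c hc => ?_).trans hC1))
        · obtain ⟨⟨c', w0⟩, hw0, rfl⟩ := Finset.mem_image.1 hc
          obtain ⟨-, hc1, hw1, hw2⟩ := Finset.mem_filter.1 hw0
          refine (Finset.card_le_card (t := {(c', w0), (c', (w0.1 + c'.1 / a, w0.2 + c'.2 / a))}) ?_).trans
            Finset.card_le_two
          rintro ⟨c'', w'⟩ hw'
          obtain ⟨hw'S, rfl⟩ := Finset.mem_filter.1 hw'
          obtain ⟨-, -, hw1', hw2'⟩ := Finset.mem_filter.1 hw'S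
          obtain ⟨r, hr1, hr2⟩ : ∃ r, w'.1 = w0.1 + r * c''.1 ∧ w'.2 = w0.2 + r * c''.2 := by
            simp only at hw2 hw2'
            by_cases h0 : c''.1 = 0
            · have h1 : c''.2 ≠ 0 := fun h => by simp [h0, h] at hw2
              refine ⟨(w'.2 - w0.2) / c''.2, ?_, by field_simp; ring⟩
              rw [h0, zero_mul, zero_add] at hw2 hw2'
              rw [h0, mul_zero, add_zero]
              exact mul_left_cancel₀ h1 (hw2'.trans hw2.symm)
            · refine ⟨(w'.1 - w0.1) / c''.1, by field_simp; ring, ?_⟩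
              field_simp
              linear_combination hw2' - hw2 + (w0.1 - w'.1) * c''.2 * h2
          simp only [q2] at hc1 hw1 hw1'
          rw [hr1, hr2] at hw1'
          simp only at hw2
          have hr : r * (r * a + 1) = 0 := by
            linear_combination hw1' - hw1 - r * r * hc1 - r * hw2 - (r * c''.1 * w0.1 * a + r * c''.2 * w0.2 * b) * h2
          rw [Finset.mem_insert, Finset.mem_singleton]
          rcases mul_eq_zero.1 hr with h | h
          · left; exact Prod.ext rfl (Prod.ext (by simpa [h] using hr1) (by simpa [h] using hr2))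
          · right
            have hra : r = 1 / a := by
              field_simp
              linear_combination h - h2
            exact Prod.ext rfl (Prod.ext (by rw [hr1, hra]; ring) (by rw [hr2, hra]; ring))
        · obtain ⟨x, hx, rfl⟩ := Finset.mem_image.1 hc
          exact Finset.mem_filter.2 ⟨Finset.mem_univ _, (Finset.mem_filter.1 hx).2.1⟩
      refine le_trans (Finset.card_le_card_of_injOn
        (fun p' => ((p'.1 ⬝ᵥ z0, p'.2 ⬝ᵥ z0), (p'.1 ⬝ᵥ z1, p'.2 ⬝ᵥ z1))) ?_ ?_) hS
      · intro p' hp'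
        have hp' := (Finset.mem_filter.1 hp').2
        have e0 := congrFun hp' z0
        have e1 := congrFun hp' z1
        have e01 := congrFun hp' (z0 + z1)
        simp only [Θ, q2, dotProduct_add, hz00, hz01, hz10, hz11] at e0 e1 e01
        refine Finset.mem_filter.2 ⟨Finset.mem_univ _, ?_, ?_, ?_⟩
        · simp only [q2]; linear_combination e0
        · simp only [q2]; linear_combination e1
        · linear_combination e01 - e0 - e1 -
            ((p'.1 ⬝ᵥ z0) * (p'.1 ⬝ᵥ z1) * a + (p'.2 ⬝ᵥ z0) * (p'.2 ⬝ᵥ z1) * b) * h2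
      · intro s hs s' hs' he
        simp only [Prod.mk.injEq] at he
        obtain ⟨⟨e1, e2⟩, e3, e4⟩ := he
        have key : ∀ p' ∈ (liPairs F (l + 2)).filter (fun x => Θ x = Θ p),
            p'.1 = (p'.1 ⬝ᵥ z0) • p.1 + (p'.1 ⬝ᵥ z1) • p.2 ∧
            p'.2 = (p'.2 ⬝ᵥ z0) • p.1 + (p'.2 ⬝ᵥ z1) • p.2 := by
          intro p' hp'
          have hker : ∀ x, p.1 ⬝ᵥ x = 0 → p.2 ⬝ᵥ x = 0 → p'.1 ⬝ᵥ x = 0 ∧ p'.2 ⬝ᵥ x = 0 := fun x hx hx' => by
            have h := congrFun (Finset.mem_filter.1 hp').2 x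
            simp only [Θ, hx, hx'] at h
            exact haniso _ _ (h.trans (by simp [q2]))
          have hdec : ∀ i, p'.1 i = (p'.1 ⬝ᵥ z0) * p.1 i + (p'.1 ⬝ᵥ z1) * p.2 i ∧
              p'.2 i = (p'.2 ⬝ᵥ z0) * p.1 i + (p'.2 ⬝ᵥ z1) * p.2 i := fun i => by
            obtain ⟨h1, h1'⟩ := hker (Pi.single i 1 - (p.1 i • z0 + p.2 i • z1))
              (by simp [dotProduct_sub, hz00, hz10]) (by simp [dotProduct_sub, hz01, hz11])
            simp [dotProduct_sub, sub_eq_zero] at h1 h1'
            exact ⟨by linear_combination h1, by linear_combination h1'⟩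
          exact ⟨funext fun i => (hdec i).1, funext fun i => (hdec i).2⟩
        obtain ⟨ks1, ks2⟩ := key s hs
        obtain ⟨ks1', ks2'⟩ := key s' hs'
        have h1 : s.1 = s'.1 := by rw [ks1, ks1', e1, e3]
        have h2' : s.2 = s'.2 := by rw [ks2, ks2', e2, e4]
        obtain ⟨s1, s2⟩ := s
        obtain ⟨s1', s2'⟩ := s'
        obtain rfl : s1 = s1' := h1
        obtain rfl : s2 = s2' := h2'
        rfl)
    rw [card_liPairs] at hfib
    refine hfib.trans (Nat.mul_le_mul_left _ (Finset.card_le_card fun t ht => ?_))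
    obtain ⟨p, hp, rfl⟩ := Finset.mem_image.1 ht
    exact hmem p hp

end CfsgLib.RadicalBound
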