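import Mathlib
import Cfsg.Agent.Lib.RadicalBound.Basic
import Cfsg.Agent.Lib.RadicalBound.QuadOrbit
import Cfsg.Agent.Lib.SympWeil.LowerBound

/-! The minimal degree of `Sp_{2n}(q)`, `q` even. -/

set_option autoImplicit false
set_option maxHeartbeats 800000

namespace CfsgLib.RadicalBound

open Matrix CfsgLib.SympWeil

local notation "Sy" => CfsgLib.SympWeil.Sym

section

variable {G : Type*} [Group G] {k : ℕ} {V : Type*} [AddCommGroup V] [Fintype V] (f : V → G)
  (hf : ∀ S T, f (S + T) = f S * f T) (ρ : Representation ℂ G (Fin k → ℂ))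

include hf in
/-- Some character which is non-trivial at a given element occurs, if that element acts non-trivially. -/
theorem exists_eigen_at {S1 : V} (hS1 : ρ (f S1) ≠ 1) :
    ∃ χ : AddChar V ℂ, χ S1 ≠ 1 ∧ ∃ w, w ≠ 0 ∧ ∀ S, ρ (f S) w = χ S • w := by
  classical
  by_contra hcon
  push Not at hcon
  have hsum : ∑ χ, proj f ρ χ = 1 := by
    simp only [proj, ← Finset.smul_sum]
    rw [Finset.sum_comm]
    simp only [← Finset.sum_smul]
    rw [Finset.sum_eq_single (0 : V) (fun S _ hS => ?_) (by simp)]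
    · have h0 : f 0 = 1 := by
        have := hf 0 0
        rwa [add_zero, left_eq_mul] at this
      rw [h0, map_one, neg_zero, smul_smul]
      simp only [AddChar.map_zero_eq_one, Finset.sum_const, Finset.card_univ, nsmul_eq_mul, mul_one]
      rw [AddChar.card_eq, inv_mul_cancel₀ (Nat.cast_ne_zero.2 Fintype.card_ne_zero), one_smul]
    · rw [AddChar.sum_apply_eq_zero_iff_ne_zero.2 (neg_ne_zero.2 hS), zero_smul]
  have hterm : ∀ χ : AddChar V ℂ, ρ (f S1) * proj f ρ χ = proj f ρ χ := fun χ => by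
    rw [eig_proj f hf ρ χ S1]
    by_cases h : χ S1 = 1
    · rw [h, one_smul]
    · have hz : proj f ρ χ = 0 := LinearMap.ext fun x => by
        by_contra hx
        obtain ⟨S, hS⟩ := hcon χ h (proj f ρ χ x) (fun h0 => hx (by rw [h0]; rfl))
        exact hS (LinearMap.congr_fun (eig_proj f hf ρ χ S) x)
      rw [hz, smul_zero]
  apply hS1
  calc ρ (f S1) = ρ (f S1) * ∑ χ, proj f ρ χ := by rw [hsum, mul_one]
    _ = 1 := by rw [Finset.mul_sum, Finset.sum_congr rfl fun χ _ => hterm χ, hsum]

end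

variable {F : Type*} [Field F] [Fintype F] [DecidableEq F] {l : ℕ}

/-- The squares of vectors as symmetric matrices. -/
def sq' (x : Fin (l + 2) → F) : Sy F (l + 2) := ⟨vecMulVec x x, Matrix.transpose_vecMulVec x x⟩

/-- The polar of `sq'`. -/
def sy' (x y : Fin (l + 2) → F) : Sy F (l + 2) :=
  ⟨vecMulVec x y + vecMulVec y x, by
    show (vecMulVec x y + vecMulVec y x)ᵀ = _
    rw [Matrix.transpose_add, Matrix.transpose_vecMulVec, Matrix.transpose_vecMulVec]
    exact add_comm _ _⟩

/-- The minimal degree of `Sp_{2n}(q)`, `q` even. -/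
theorem symp_even_bound (h2 : (2 : F) = 0) (hex : l = 0 → 3 ≤ Fintype.card F) (k : ℕ)
    (ρ : Representation ℂ (Matrix.symplecticGroup (Fin (l + 2)) F) (Fin k → ℂ))
    (hirr : ρ.IsIrreducible) (hk : 2 ≤ k) :
    (Fintype.card F ^ (l + 2) - 1) * (Fintype.card F ^ (l + 2) - Fintype.card F) ≤
      2 * (Fintype.card F + 1) * k := by
  classical
  haveI : Fintype (Sy F (l + 2)) := Fintype.ofFinite _
  let S1 : Sy F (l + 2) := sy' (Pi.single 0 1) (Pi.single 1 1)
  have hsimp : IsSimpleGroup (Matrix.symplecticGroup (Fin (l + 2)) F ⧸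
      Subgroup.center (Matrix.symplecticGroup (Fin (l + 2)) F)) :=
    SympSimple.simple (by omega) (fun h => hex (by omega))
  have hperf := SympSimple.perfect_fintype (F := F) (m := l + 2)
    (by rcases Nat.eq_zero_or_pos l with h | h
        · exact Or.inr (Or.inl ⟨by omega, hex h⟩)
        · exact Or.inl (by omega))
  have hnt : ρ (sieg S1) ≠ 1 := nontrivial_of_simple hsimp hperf ρ hirr hk fun hc => by
    obtain ⟨r, hr⟩ := SympTransvection.scalar_of_central _ hc
    have := congrFun (congrFun hr (Sum.inl 0)) (Sum.inr 1)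
    simp [sieg, S1, sy', Matrix.scalar_apply, vecMulVec_apply] at this
  obtain ⟨χ, hχS1, w, hw0, hw⟩ := exists_eigen_at sieg sieg_add ρ hnt
  -- the functional of the character
  haveI : Finite (Sy F (l + 2) →ₗ[F] F) := Finite.of_injective _ DFunLike.coe_injective
  haveI : Fintype (Sy F (l + 2) →ₗ[F] F) := Fintype.ofFinite _
  let Φ : (Sy F (l + 2) →ₗ[F] F) → AddChar (Sy F (l + 2)) ℂ := fun f =>
    { toFun := fun S => ψ (f S)
      map_zero_eq_one' := by simp
      map_add_eq_mul' := fun S T => by rw [map_add, AddChar.map_add_eq_mul] }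
  have hΦapp : ∀ f S, Φ f S = ψ (f S) := fun f S => rfl
  have hΦinj : Function.Injective Φ := fun f f' h => LinearMap.ext fun S => by
    by_contra hne
    obtain ⟨t, ht⟩ := ψ_ne (sub_ne_zero.2 hne)
    apply ht
    have h1 := DFunLike.congr_fun h (t • S)
    rw [hΦapp, hΦapp, f.map_smul, f'.map_smul, smul_eq_mul, smul_eq_mul] at h1
    rw [sub_mul, sub_eq_add_neg, AddChar.map_add_eq_mul, mul_comm (f S), h1, mul_comm t, ← AddChar.map_add_eq_mul,
      add_neg_cancel, AddChar.map_zero_eq_one]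
  have hΦsurj : Function.Surjective Φ := by
    refine ((Fintype.bijective_iff_injective_and_card Φ).2 ⟨hΦinj, ?_⟩).2
    rw [AddChar.card_eq, Module.card_eq_pow_finrank (K := F) (V := Sy F (l + 2) →ₗ[F] F),
      Module.card_eq_pow_finrank (K := F) (V := Sy F (l + 2)), Subspace.dual_finrank_eq]
  obtain ⟨lam, rfl⟩ := hΦsurj χ
  let Q : (Fin (l + 2) → F) → F := fun x => lam (sq' x)
  let B : (Fin (l + 2) → F) →ₗ[F] (Fin (l + 2) → F) →ₗ[F] F :=
    LinearMap.mk₂ F (fun x y => lam (sy' x y))
      (fun a b c => by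
        rw [← map_add]; congr 1; refine Subtype.ext ?_
        simp [sy', Matrix.add_vecMulVec, Matrix.vecMulVec_add]; abel)
      (fun r a b => by
        rw [← map_smul]; congr 1; refine Subtype.ext ?_
        simp [sy', Matrix.smul_vecMulVec, Matrix.vecMulVec_smul, smul_add])
      (fun a b c => by
        rw [← map_add]; congr 1; refine Subtype.ext ?_
        simp [sy', Matrix.add_vecMulVec, Matrix.vecMulVec_add]; abel)
      (fun r a b => by
        rw [← map_smul]; congr 1; refine Subtype.ext ?_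
        simp [sy', Matrix.smul_vecMulVec, Matrix.vecMulVec_smul, smul_add])
  have hadd : ∀ x y, Q (x + y) = Q x + Q y + B x y := fun x y => by
    show lam _ = lam _ + lam _ + lam _
    rw [← map_add, ← map_add]; congr 1; refine Subtype.ext ?_
    simp [sq', sy', Matrix.add_vecMulVec, Matrix.vecMulVec_add]; abel
  have hsm : ∀ (c : F) x, Q (c • x) = c * c * Q x := fun c x => by
    show lam _ = c * c * lam _
    rw [← smul_eq_mul (c * c) (lam _), ← map_smul]; congr 1; refine Subtype.ext ?_
    simp [sq', Matrix.smul_vecMulVec, Matrix.vecMulVec_smul, smul_smul]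
  have hB : B ≠ 0 := fun h => hχS1 (by
    have : lam S1 = 0 := LinearMap.congr_fun (LinearMap.congr_fun h (Pi.single 0 1)) (Pi.single 1 1)
    rw [hΦapp, this, AddChar.map_zero_eq_one])
  let Os : Finset (Sy F (l + 2) →ₗ[F] F) :=
    Finset.univ.filter fun f => ∃ w, w ≠ 0 ∧ ∀ S, ρ (sieg S) w = Φ f S • w
  have h1 := orbit_quad h2 Q B hadd hsm hB (Os.image fun f => fun x => f (sq' x)) (fun g hg => by
    obtain ⟨u, hu⟩ : IsUnit g := (Matrix.isUnit_iff_isUnit_det g).2 (isUnit_iff_ne_zero.2 hg)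
    subst hu
    refine Finset.mem_image.2 ⟨lam.comp (cg u), Finset.mem_filter.2 ⟨Finset.mem_univ _, ?_⟩, funext fun x => ?_⟩
    · exact eigen_conj sieg ρ hw0 hw (levi u) (cg u) (fun S => levi_sieg u S) fun S => rfl
    · show lam (cg u (sq' x)) = lam (sq' (u.1 *ᵥ x))
      congr 1
      refine Subtype.ext ?_
      show u.1 * vecMulVec x x * u.1ᵀ = vecMulVec (u.1 *ᵥ x) (u.1 *ᵥ x)
      rw [Matrix.mul_vecMulVec, Matrix.vecMulVec_mul, Matrix.vecMul_transpose])
  refine h1.trans (Nat.mul_le_mul_left _ (Finset.card_image_le.trans ?_))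
  rw [← Finset.card_image_of_injective Os hΦinj]
  refine card_le sieg ρ _ fun χ hχ => ?_
  obtain ⟨f, hf, rfl⟩ := Finset.mem_image.1 hχ
  exact (Finset.mem_filter.1 hf).2

end CfsgLib.RadicalBound
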