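import Mathlib
import Cfsg.Agent.Lib.RadicalBound.Basic
import Cfsg.Agent.Lib.RadicalBound.HermOrbit
import Cfsg.Agent.Lib.UnitarySimple

/-! The minimal degree of `SU_{2m}(q)`. -/

set_option autoImplicit false
set_option maxHeartbeats 800000

namespace CfsgLib.RadicalBound

open Matrix CfsgLib.UnitaryTransvection CfsgLib.UnitarySimple

variable {F : Type*} [Field F] [Fintype F] [DecidableEq F] {q m : ℕ} (hF : Fintype.card F = q ^ 2)

local notation "σ" => frob hF
local notation "Mt" => Matrix (Fin m ⊕ Fin m) (Fin m ⊕ Fin m) F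

/-- The hyperbolic form. -/
def Jm : Matrix (Fin m ⊕ Fin m) (Fin m ⊕ Fin m) F := fromBlocks 0 1 1 0

/-- Skew hermitian matrices. -/
def Skw (τ : F →+* F) (m : ℕ) : AddSubgroup (Matrix (Fin m) (Fin m) F) where
  carrier := {S | ct τ S = -S}
  add_mem' {A B} hA hB := by
    show (A + B)ᵀ.map τ = -(A + B)
    have hA' : Aᵀ.map τ = -A := hA
    have hB' : Bᵀ.map τ = -B := hB
    rw [transpose_add, Matrix.map_add _ (map_add τ), hA', hB', neg_add]
  zero_mem' := by simp [ct]
  neg_mem' {A} hA := by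
    show (-A)ᵀ.map τ = - -A
    have hA' : Aᵀ.map τ = -A := hA
    rw [transpose_neg, neg_neg]
    ext i j
    have := congrFun (congrFun hA' i) j
    simp only [Matrix.map_apply, Matrix.transpose_apply, Matrix.neg_apply] at this ⊢
    rw [map_neg, this, neg_neg]

omit [Fintype F] [DecidableEq F] in
theorem ct_ct {a b : Type*} (τ : F →+* F) (hτ : ∀ x, τ (τ x) = x) (A : Matrix a b F) : ct τ (ct τ A) = A := by
  ext i j
  simp [ct, hτ]

omit [Fintype F] [DecidableEq F] in
theorem ct_one {a : Type*} [DecidableEq a] (τ : F →+* F) : ct τ (1 : Matrix a a F) = 1 := by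
  simp [ct]

omit [Fintype F] [DecidableEq F] in
theorem ct_fromBlocks (τ : F →+* F) (A B C D : Matrix (Fin m) (Fin m) F) :
    ct τ (fromBlocks A B C D) = fromBlocks (ct τ A) (ct τ C) (ct τ B) (ct τ D) := by
  ext (i | i) (j | j) <;> simp [ct]

include hF in
omit [DecidableEq F] in
/-- A hyperbolic basis. -/
theorem exists_basis : ∃ P : Mt, ct σ P * P = Jm := by
  obtain ⟨ω, hω⟩ := exists_norm_eq hF (c := (-1 : F)) (by rw [map_neg, map_one])
  obtain ⟨ω1, hω1, hω1n⟩ := exists_omega hF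
  obtain ⟨c, hc⟩ : ∃ c, c = (1 - ω1)⁻¹ := ⟨_, rfl⟩
  have hne : (1 : F) - ω1 ≠ 0 := sub_ne_zero.2 (Ne.symm hω1)
  have hc1 : c * (1 - ω1) = 1 := by rw [hc]; exact inv_mul_cancel₀ hne
  have hsc : σ c * (1 - σ ω1) = 1 := by
    rw [← map_one σ, ← map_sub, ← map_mul, hc1]
  refine ⟨fromBlocks 1 (c • 1) (ω • 1) ((c * (ω1 * ω)) • 1), ?_⟩
  have hs : ∀ r : F, ct σ (r • (1 : Matrix (Fin m) (Fin m) F)) = σ r • 1 := fun r => by
    ext i j
    rcases eq_or_ne i j with rfl | hij <;> simp [ct, *, Ne.symm]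
  have hs' : ∀ r s : F, (r • (1 : Matrix (Fin m) (Fin m) F)) * (s • 1) = (r * s) • 1 := fun r s => by
    rw [Matrix.smul_mul, Matrix.one_mul, smul_smul]
  rw [ct_fromBlocks, hs, hs, hs, ct_one, fromBlocks_multiply, Jm]
  simp only [one_mul, mul_one, hs', Matrix.one_mul, Matrix.mul_one, ← add_smul]
  rw [show (1 : Matrix (Fin m) (Fin m) F) + (σ ω * ω) • 1 = (1 + σ ω * ω) • 1 by rw [add_smul, one_smul]]
  congr 1
  · rw [show 1 + σ ω * ω = 0 by linear_combination hω, zero_smul]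
  · rw [show c + σ ω * (c * (ω1 * ω)) = 1 by linear_combination hc1 + c * ω1 * hω, one_smul]
  · rw [show σ c + σ (c * (ω1 * ω)) * ω = 1 by
      rw [map_mul, map_mul]; linear_combination hsc + σ c * σ ω1 * hω, one_smul]
  · rw [show σ c * c + σ (c * (ω1 * ω)) * (c * (ω1 * ω)) = 0 by
      rw [map_mul, map_mul]
      linear_combination σ c * c * (σ ω * ω) * hω1n + σ c * c * hω, zero_smul]

/-- The chosen hyperbolic basis. -/
noncomputable def Pm : Mt := (exists_basis hF).choose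

omit [DecidableEq F] in
theorem Pm_spec : ct σ (Pm (m := m) hF) * Pm hF = Jm := (exists_basis hF).choose_spec

omit [Fintype F] [DecidableEq F] in
theorem Jm_sq : (Jm (F := F) (m := m)) * Jm = 1 := by
  simp [Jm, fromBlocks_multiply]

omit [DecidableEq F] in
theorem Pm_inv : Jm * ct σ (Pm (m := m) hF) * Pm hF = 1 := by
  rw [Matrix.mul_assoc, Pm_spec, Jm_sq]

omit [DecidableEq F] in
theorem Pm_inv' : Pm (m := m) hF * (Jm * ct σ (Pm hF)) = 1 := mul_eq_one_comm.1 (Pm_inv hF)

/-- The matrix in the standard basis. -/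
noncomputable def conjP (X : Mt) : Matrix (Fin (m + m)) (Fin (m + m)) F :=
  (Pm hF * X * (Jm * ct σ (Pm hF))).submatrix finSumFinEquiv.symm finSumFinEquiv.symm

omit [DecidableEq F] in
theorem conjP_mul (X Y : Mt) : conjP hF (X * Y) = conjP hF X * conjP hF Y := by
  rw [conjP, conjP, conjP, submatrix_mul_equiv]
  congr 1
  calc Pm hF * (X * Y) * (Jm * ct σ (Pm hF))
      = Pm hF * X * 1 * Y * (Jm * ct σ (Pm hF)) := by simp only [Matrix.mul_assoc, Matrix.one_mul]
    _ = _ := by rw [← Pm_inv hF]; simp only [Matrix.mul_assoc]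

omit [DecidableEq F] in
theorem conjP_det (X : Mt) : (conjP hF X).det = X.det := by
  rw [conjP, det_submatrix_equiv_self, det_mul_right_comm, Pm_inv', Matrix.one_mul]

omit [DecidableEq F] in
theorem conjP_iso (X : Mt) (hX : ct σ X * Jm * X = Jm) : ct σ (conjP hF X) * conjP hF X = 1 := by
  have e : ct σ (conjP hF X) = (ct σ (Pm hF * X * (Jm * ct σ (Pm hF)))).submatrix finSumFinEquiv.symm
      finSumFinEquiv.symm := rfl
  rw [e, conjP, submatrix_mul_equiv]
  have hJ : ct σ (Jm (F := F) (m := m)) = Jm := by rw [Jm, ct_fromBlocks, ct_one]; simp [ct]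
  rw [show ct σ (Pm hF * X * (Jm * ct σ (Pm hF))) * (Pm hF * X * (Jm * ct σ (Pm hF))) = 1 by
    rw [ct_mul, ct_mul, ct_mul, hJ, ct_ct _ (frob_frob hF)]
    calc Pm hF * Jm * (ct σ X * ct σ (Pm hF)) * (Pm hF * X * (Jm * ct σ (Pm hF)))
        = Pm hF * Jm * (ct σ X * (ct σ (Pm hF) * Pm hF) * X) * (Jm * ct σ (Pm hF)) := by
          simp only [Matrix.mul_assoc]
      _ = Pm hF * (Jm * Jm) * (Jm * ct σ (Pm hF)) := by
          rw [Pm_spec, hX]; simp only [Matrix.mul_assoc]
      _ = 1 := by rw [Jm_sq, Matrix.mul_one, Pm_inv']]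
  exact submatrix_one_equiv _

omit [DecidableEq F] in
theorem iso_of_ct {n : ℕ} {M : Matrix (Fin n) (Fin n) F} (hM : ct σ M * M = 1) (u v : Fin n → F) :
    Cfsg.hermForm n F q (M *ᵥ u) (M *ᵥ v) = Cfsg.hermForm n F q u v := by
  have h1 : Mᵀ * M.map σ = 1 := by
    have := congrArg (fun A : Matrix (Fin n) (Fin n) F => A.map σ) hM
    rw [show (1 : Matrix (Fin n) (Fin n) F).map σ = 1 by simp, Matrix.map_mul] at this
    rw [← this]
    congr 1
    ext i j
    simp [ct, frob_frob]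
  have hv : ∀ w : Fin n → F, Cfsg.hermForm n F q u w = u ⬝ᵥ fun i => σ (w i) := fun w => by
    simp [Cfsg.hermForm, dotProduct, frob_apply]
  have hs : (fun i => σ ((M *ᵥ v) i)) = M.map σ *ᵥ fun i => σ (v i) := by
    funext i; simp [mulVec, dotProduct]
  rw [show Cfsg.hermForm n F q (M *ᵥ u) (M *ᵥ v) = (M *ᵥ u) ⬝ᵥ fun i => σ ((M *ᵥ v) i) by
    simp [Cfsg.hermForm, dotProduct, frob_apply], hv, hs, ← vecMul_transpose, ← dotProduct_mulVec,
    mulVec_mulVec, h1, one_mulVec]

/-- An element of `SU` from an isometry of the hyperbolic form. -/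
noncomputable def mk (X : Mt) (hX : ct σ X * Jm * X = Jm) (hd : X.det = 1) : Cfsg.SU (m + m) F q :=
  mkSU (conjP hF X) (iso_of_ct hF (conjP_iso hF X hX)) (by rw [conjP_det, hd])

omit [DecidableEq F] in
theorem conjP_inj {X Y : Mt} (h : conjP hF X = conjP hF Y) : X = Y := by
  have h' := congrArg (fun M : Matrix (Fin (m + m)) (Fin (m + m)) F =>
    Jm * ct σ (Pm hF) * M.submatrix finSumFinEquiv finSumFinEquiv * Pm hF) h
  simp only [conjP, submatrix_submatrix, Equiv.symm_comp_self, submatrix_id_id] at h'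
  have e : ∀ Z : Mt, Jm * ct σ (Pm hF) * (Pm hF * Z * (Jm * ct σ (Pm hF))) * Pm hF = Z := fun Z => by
    calc _ = (Jm * ct σ (Pm hF) * Pm hF) * Z * (Jm * ct σ (Pm hF) * Pm hF) := by simp only [Matrix.mul_assoc]
      _ = Z := by rw [Pm_inv, Matrix.one_mul, Matrix.mul_one]
  rwa [e, e] at h'

/-- The Siegel radical. -/
noncomputable def sieg (S : Skw σ m) : Cfsg.SU (m + m) F q :=
  mk hF (fromBlocks 1 S.1 0 1)
    (by
      have hS : ct σ S.1 = -S.1 := S.2
      rw [ct_fromBlocks, ct_one, hS, Jm, fromBlocks_multiply, fromBlocks_multiply]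
      simp [ct])
    (by simp)

omit [DecidableEq F] in
theorem sieg_add (S T : Skw σ m) : sieg hF (S + T) = sieg hF S * sieg hF T := by
  refine Subtype.ext (Subtype.ext ?_)
  show conjP hF (fromBlocks 1 (S.1 + T.1) 0 1) = conjP hF (fromBlocks 1 S.1 0 1) * conjP hF (fromBlocks 1 T.1 0 1)
  rw [← conjP_mul, fromBlocks_multiply]
  simp [add_comm]

omit [DecidableEq F] in
theorem ct_det (A : Matrix (Fin m) (Fin m) F) : (ct σ A).det = σ A.det := by
  rw [ct, ← RingHom.mapMatrix_apply, ← RingHom.map_det, det_transpose]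

omit [DecidableEq F] in
theorem levi_exists (A : Matrix (Fin m) (Fin m) F) (hA : A.det ≠ 0) (hAσ : σ A.det = A.det) :
    ∃ g : Cfsg.SU (m + m) F q, ∀ S T : Skw σ m, T.1 = A * S.1 * ct σ A → g * sieg hF S = sieg hF T * g := by
  have hu : IsUnit (ct σ A).det := by rw [ct_det, hAσ]; exact isUnit_iff_ne_zero.2 hA
  have hB : ct σ A * (ct σ A)⁻¹ = 1 := mul_nonsing_inv _ hu
  have hB2 : ct σ (ct σ A)⁻¹ * A = 1 := by
    have := congrArg (ct σ) hB
    rwa [ct_mul, ct_ct _ (frob_frob hF), ct_one] at this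
  refine ⟨mk hF (fromBlocks A 0 0 (ct σ A)⁻¹) ?_ ?_, fun S T hT => ?_⟩
  · rw [ct_fromBlocks, Jm, fromBlocks_multiply, fromBlocks_multiply]
    simp [ct, hB2]
    exact ⟨hB, hB2⟩
  · rw [det_fromBlocks_zero₁₂, det_nonsing_inv, ct_det, hAσ, Ring.inverse_eq_inv', mul_inv_cancel₀ hA]
  · refine Subtype.ext (Subtype.ext ?_)
    show conjP hF (fromBlocks A 0 0 (ct σ A)⁻¹) * conjP hF (fromBlocks 1 S.1 0 1) =
      conjP hF (fromBlocks 1 T.1 0 1) * conjP hF (fromBlocks A 0 0 (ct σ A)⁻¹)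
    rw [← conjP_mul, ← conjP_mul, fromBlocks_multiply, fromBlocks_multiply, hT]
    simp [Matrix.mul_assoc, hB]

include hF in
/-- The minimal degree of `SU_{2m}(q)`. -/
theorem unitary_even_bound (hm : 2 ≤ m) (k : ℕ) (ρ : Representation ℂ (Cfsg.SU (m + m) F q) (Fin k → ℂ))
    (hirr : ρ.IsIrreducible) (hk : 2 ≤ k) : q ^ (m + m) - 1 ≤ (q + 1) * k := by
  classical
  haveI : NeZero m := ⟨by omega⟩
  obtain ⟨c0, hc0, hskew⟩ := exists_skew hF
  obtain ⟨d0, hd0'⟩ := exists_trace_one hF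
  have hd0 : d0 + σ d0 = 1 := by rw [add_comm]; exact hd0'
  have hσc : σ c0 = -c0 := by linear_combination hskew
  obtain ⟨ψ, hψ⟩ := AddChar.exists_apply_ne_zero.2 hc0
  haveI : Fintype (Skw σ m) := Fintype.ofFinite _
  let Herm := {H : Matrix (Fin m) (Fin m) F // ∀ i j, σ (H i j) = H j i}
  haveI : Fintype Herm := Fintype.ofFinite _
  let Χ : Herm → AddChar (Skw σ m) ℂ := fun H =>
    { toFun := fun S => ψ (H.1 * S.1).trace
      map_zero_eq_one' := by simp
      map_add_eq_mul' := fun S T => by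
        rw [AddSubgroup.coe_add, Matrix.mul_add, trace_add, AddChar.map_add_eq_mul] }
  have hΧ : ∀ H S, Χ H S = ψ (H.1 * S.1).trace := fun _ _ => rfl
  have hinj : Function.Injective Χ := by
    intro H H' h
    refine Subtype.ext (Matrix.ext fun i j => ?_)
    by_contra hne
    set z := H.1 i j - H'.1 i j with hz
    have hz0 : z ≠ 0 := sub_ne_zero.2 hne
    set t := c0 * d0 / z with ht
    let S : Skw σ m := ⟨Matrix.single j i t - Matrix.single i j (σ t), by
      show (Matrix.single j i t - Matrix.single i j (σ t))ᵀ.map σ = -_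
      rw [Matrix.transpose_sub, Matrix.transpose_single, Matrix.transpose_single, Matrix.map_sub _ (map_sub σ),
        Matrix.map_single, Matrix.map_single, frob_frob, neg_sub]⟩
    have htr : ∀ M : Matrix (Fin m) (Fin m) F, (M * S.1).trace = M i j * t - M j i * σ t := fun M => by
      show (M * (Matrix.single j i t - Matrix.single i j (σ t))).trace = _
      rw [Matrix.mul_sub, trace_sub, Matrix.trace_mul_comm, Matrix.trace_single_mul, Matrix.trace_mul_comm,
        Matrix.trace_single_mul]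
      simp only [smul_eq_mul]
      ring
    have hh := DFunLike.congr_fun h S
    rw [hΧ, hΧ, htr, htr, ← H.2 i j, ← H'.2 i j, ← map_mul, ← map_mul] at hh
    apply hψ
    have e : c0 = (H.1 i j * t - σ (H.1 i j * t)) - (H'.1 i j * t - σ (H'.1 i j * t)) := by
      have hu : z * t = c0 * d0 := by rw [ht, mul_div_cancel₀ _ hz0]
      have hu' : σ z * σ t = σ c0 * σ d0 := by rw [← map_mul, hu, map_mul]
      simp only [hz, map_sub] at hu hu'
      rw [map_mul, map_mul]
      linear_combination (-c0) * hd0 - hu + hu' + σ d0 * hσc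
    rw [e, sub_eq_add_neg, AddChar.map_add_eq_mul, hh, ← AddChar.map_add_eq_mul, add_neg_cancel,
      AddChar.map_zero_eq_one]
  have hcard : Fintype.card Herm = Fintype.card (Skw σ m) := by
    refine Fintype.card_congr
      { toFun := fun H => ⟨c0 • H.1, ?_⟩
        invFun := fun S => ⟨c0⁻¹ • S.1, fun i j => ?_⟩
        left_inv := fun H => Subtype.ext (inv_smul_smul₀ hc0 _)
        right_inv := fun S => Subtype.ext (smul_inv_smul₀ hc0 _) }
    · show (c0 • H.1)ᵀ.map σ = -(c0 • H.1)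
      ext i j
      simp [hσc, H.2]
    · have hS : σ (S.1 i j) = -S.1 j i := congrFun (congrFun (show ct σ S.1 = -S.1 from S.2) j) i
      simp [map_inv₀, hσc, hS]
  have hbij : Function.Surjective Χ :=
    ((Fintype.bijective_iff_injective_and_card Χ).2 ⟨hinj, by rw [AddChar.card_eq, hcard]⟩).2
  have hnt : ∃ S, ρ (sieg hF S) ≠ 1 := by
    let S0 : Skw σ m := ⟨c0 • 1, by
      show (c0 • (1 : Matrix (Fin m) (Fin m) F))ᵀ.map σ = -(c0 • 1)
      ext i j
      rcases eq_or_ne i j with rfl | hij <;> simp [*, Ne.symm]⟩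
    refine ⟨S0, nontrivial_of_simple (UnitarySimple.simple hF (by omega) (by omega))
      (UnitarySimple.perfect hF (by omega) (by omega)) ρ hirr hk fun hc => ?_⟩
    have hS0 : ct σ S0.1 = -S0.1 := S0.2
    have h2 : ct σ (fromBlocks (1 : Matrix (Fin m) (Fin m) F) 0 S0.1 1) * Jm * fromBlocks 1 0 S0.1 1 = Jm := by
      rw [ct_fromBlocks, ct_one, hS0, Jm, fromBlocks_multiply, fromBlocks_multiply]
      simp [ct]
    have e := Subgroup.mem_center_iff.1 hc (mk hF (fromBlocks 1 0 S0.1 1) h2 (by simp))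
    have e' : conjP hF (fromBlocks 1 0 S0.1 1) * conjP hF (fromBlocks 1 S0.1 0 1) =
        conjP hF (fromBlocks 1 S0.1 0 1) * conjP hF (fromBlocks 1 0 S0.1 1) :=
      congrArg (fun x : Cfsg.SU (m + m) F q => mat x) e
    rw [← conjP_mul, ← conjP_mul] at e'
    have e'' := conjP_inj hF e'
    rw [fromBlocks_multiply, fromBlocks_multiply] at e''
    have h00 := congrFun (congrFun e'' (Sum.inl ⟨0, by omega⟩)) (Sum.inl ⟨0, by omega⟩)
    simp [S0, hc0] at h00
  obtain ⟨S1, hS1⟩ := hnt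
  obtain ⟨χ, hχ1, w, hw0, hw⟩ := exists_eigen (sieg hF) (sieg_add hF) ρ hS1
  obtain ⟨H, rfl⟩ := hbij χ
  have hH0 : H.1 ≠ 0 := fun h => hχ1 (DFunLike.ext _ _ fun S => by rw [hΧ, h]; simp)
  let Os : Finset Herm := Finset.univ.filter fun H' =>
    ∃ w, w ≠ 0 ∧ ∀ S, ρ (sieg hF S) w = Χ H' S • w
  have hmem : ∀ A : Matrix (Fin m) (Fin m) F, A.det ≠ 0 → σ A.det = A.det →
      ct σ A * H.1 * A ∈ Os.image Subtype.val := by
    intro A hA hAσ
    have hherm : ∀ i j, σ ((ct σ A * H.1 * A) i j) = (ct σ A * H.1 * A) j i := by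
      intro i j
      have hHc : ct σ H.1 = H.1 := Matrix.ext fun a b => H.2 b a
      have : ct σ (ct σ A * H.1 * A) = ct σ A * H.1 * A := by
        rw [ct_mul, ct_mul, hHc, ct_ct _ (frob_frob hF), Matrix.mul_assoc]
      exact congrFun (congrFun this j) i
    refine Finset.mem_image.2 ⟨⟨_, hherm⟩, Finset.mem_filter.2 ⟨Finset.mem_univ _, ?_⟩, rfl⟩
    obtain ⟨g, hg⟩ := levi_exists hF A hA hAσ
    let cS : Skw σ m → Skw σ m := fun S => ⟨A * S.1 * ct σ A, by
      show ct σ (A * S.1 * ct σ A) = -_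
      rw [ct_mul, ct_mul, ct_ct _ (frob_frob hF), show ct σ S.1 = -S.1 from S.2, Matrix.neg_mul, Matrix.mul_neg,
        Matrix.mul_assoc]⟩
    refine eigen_conj (sieg hF) ρ hw0 hw g cS (fun S => hg S _ rfl) fun S => ?_
    rw [hΧ, hΧ]
    show ψ (ct σ A * H.1 * A * S.1).trace = ψ (H.1 * (A * S.1 * ct σ A)).trace
    rw [Matrix.trace_mul_comm H.1, Matrix.mul_assoc, Matrix.mul_assoc, Matrix.trace_mul_comm (ct σ A)]
    simp only [Matrix.mul_assoc]
    rw [Matrix.trace_mul_comm H.1]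
    simp only [Matrix.mul_assoc]
  have h1 := orbit_herm hF (frob_frob hF) c0 hc0 hskew d0 hd0 hm (fun c hc => exists_norm_eq hF hc)
    (fun s hs => by rw [frob_apply] at hs; rw [pow_succ']; exact hs) H.1 H.2 hH0 _ hmem
  have h2 : Os.card ≤ k := by
    rw [← Finset.card_image_of_injective Os hinj]
    refine card_le (sieg hF) ρ _ fun χ hχ => ?_
    obtain ⟨H', hH', rfl⟩ := Finset.mem_image.1 hχ
    exact (Finset.mem_filter.1 hH').2
  rw [← two_mul]
  exact h1.trans (Nat.mul_le_mul_left _ (Finset.card_image_le.trans h2))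

end CfsgLib.RadicalBound
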