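import Mathlib
import Cfsg.Agent.Lib.RadicalBound.UnitaryEven

/-! The minimal degree of `SU_{2m+1}(q)`. -/

set_option autoImplicit false
set_option maxHeartbeats 800000

namespace CfsgLib.RadicalBound

open Matrix CfsgLib.UnitaryTransvection CfsgLib.UnitarySimple

variable {G : Type*} [Group G] {k : ℕ} {V : Type*} [AddCommGroup V] [Fintype V] (f : V → G)
  (ρ : Representation ℂ G (Fin k → ℂ))

/-- The eigenspace of a character. -/
def eigSpace (χ : AddChar V ℂ) : Submodule ℂ (Fin k → ℂ) where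
  carrier := {w | ∀ S, ρ (f S) w = χ S • w}
  add_mem' {a b} ha hb S := by rw [map_add, ha S, hb S, smul_add]
  zero_mem' S := by rw [map_zero, smul_zero]
  smul_mem' c a ha S := by rw [map_smul, ha S, smul_comm]

/-- Characters with big eigenspaces. -/
theorem card_mul_le (O : Finset (AddChar V ℂ)) (d : ℕ)
    (h : ∀ χ ∈ O, d ≤ Module.finrank ℂ (eigSpace f ρ χ)) : O.card * d ≤ k := by
  classical
  have hb : ∀ χ : O, ∃ b : Fin d → eigSpace f ρ χ.1, LinearIndependent ℂ b := fun χ =>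
    exists_linearIndependent_of_le_finrank (h χ.1 χ.2)
  choose b hb using hb
  have hli : LinearIndependent ℂ fun p : O × Fin d => ((b p.1 p.2 : eigSpace f ρ p.1.1) : Fin k → ℂ) := by
    rw [Fintype.linearIndependent_iff]
    intro c hc ⟨l, j⟩
    have := congrArg (proj f ρ l.1) hc
    simp only [map_sum, map_smul, map_zero, fun p : O × Fin d =>
      proj_eigen f ρ l.1 p.1.1 (w := ((b p.1 p.2 : eigSpace f ρ p.1.1) : Fin k → ℂ)) (b p.1 p.2).2] at this
    rw [Fintype.sum_prod_type, Finset.sum_eq_single l (fun l' _ hl' => Finset.sum_eq_zero fun i _ => by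
      rw [if_neg fun h => hl' (Subtype.ext h).symm, smul_zero]) (by simp)] at this
    simp only [if_true] at this
    exact Fintype.linearIndependent_iff.1 (hb l) (fun i => c (l, i)) (Subtype.ext (by simpa using this)) j
  have hle := hli.fintype_card_le_finrank
  rwa [Fintype.card_prod, Fintype.card_coe, Fintype.card_fin, Module.finrank_fintype_fun_eq_card,
    Fintype.card_fin] at hle

/-- Operators with pairwise distinct commutator characters are independent on an invariant subspace. -/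
theorem card_le_sq {A : Type*} [AddCommGroup A] [Fintype A] (u : A → G) (W : Submodule ℂ (Fin k → ℂ))
    (hinv : ∀ t, ∀ x ∈ W, ρ (u t) x ∈ W) (hinv' : ∀ t, ∀ x ∈ W, ρ (u t)⁻¹ x ∈ W) {w : Fin k → ℂ} (hw : w ∈ W)
    (hw0 : w ≠ 0) (ξ : A → AddChar A ℂ) (hξ : Function.Injective ξ)
    (hcomm : ∀ t s, ∀ x ∈ W, ρ (u s) (ρ (u t) x) = ξ t s • ρ (u t) (ρ (u s) x)) :
    Fintype.card A ≤ Module.finrank ℂ W * Module.finrank ℂ W := by
  classical
  let L : A → (W →ₗ[ℂ] W) := fun t => (ρ (u t)).restrict (hinv t)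
  have hli : LinearIndependent ℂ L := by
    apply LinearIndependent.of_comp (LinearMap.llcomp ℂ W W (Fin k → ℂ) W.subtype)
    rw [Fintype.linearIndependent_iff]
    intro l hl t0
    have key : ∀ s, ∀ y ∈ W, ∑ t, (l t * ξ t s) • ρ (u t) y = 0 := by
      intro s y hy
      have hy' := hinv' s y hy
      have h0 := congrArg (fun e : (W →ₗ[ℂ] (Fin k → ℂ)) => ρ (u s) (e ⟨_, hy'⟩)) hl
      simp only [LinearMap.sum_apply, LinearMap.smul_apply, LinearMap.zero_apply, map_zero, map_sum, map_smul] at h0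
      rw [← h0]
      refine Finset.sum_congr rfl fun t _ => ?_
      show _ = l t • ρ (u s) (ρ (u t) (ρ (u s)⁻¹ y))
      rw [hcomm t s _ hy', smul_smul, ← Module.End.mul_apply (ρ (u s)), ← map_mul, mul_inv_cancel, map_one]
      rfl
    have hsum : ∑ s, ξ t0 (-s) • ∑ t, (l t * ξ t s) • ρ (u t) w = 0 := by
      simp [key _ w hw]
    simp only [Finset.smul_sum, smul_smul] at hsum
    rw [Finset.sum_comm] at hsum
    simp only [← Finset.sum_smul] at hsum
    rw [Finset.sum_eq_single t0 (fun t _ ht => ?_) (by simp)] at hsum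
    · rw [show ∑ s, ξ t0 (-s) * (l t0 * ξ t0 s) = l t0 * (Fintype.card A : ℂ) by
        rw [Finset.sum_congr rfl fun s _ => by
          rw [mul_left_comm, ← AddChar.map_add_eq_mul, neg_add_cancel, AddChar.map_zero_eq_one, mul_one]]
        simp [mul_comm]] at hsum
      rcases smul_eq_zero.1 hsum with h1 | h1
      · exact (mul_eq_zero.1 h1).resolve_right (Nat.cast_ne_zero.2 Fintype.card_ne_zero)
      · exfalso
        apply hw0
        calc w = (ρ (u t0)⁻¹ * ρ (u t0)) w := by rw [← map_mul, inv_mul_cancel, map_one]; rfl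
          _ = 0 := by rw [Module.End.mul_apply, h1, map_zero]
    · rw [show ∑ s, ξ t0 (-s) * (l t * ξ t s) = 0 from ?_, zero_smul]
      rw [Finset.sum_congr rfl fun s _ => mul_left_comm _ _ _, ← Finset.mul_sum]
      refine mul_eq_zero_of_right _ ?_
      have hne : (ξ t0)⁻¹ * ξ t ≠ 1 := fun e => ht (hξ (inv_mul_eq_one.1 e)).symm
      rw [← AddChar.sum_eq_zero_of_ne_one hne]
      exact Finset.sum_congr rfl fun s _ => by rw [AddChar.mul_apply, AddChar.inv_apply]
  have hle := hli.fintype_card_le_finrank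
  rwa [Module.finrank_linearMap] at hle

section Blocks

variable {F : Type*} [Field F] {m : ℕ}

local notation "Mm" => Matrix (Fin m) (Fin m) F
local notation "Cm" => Matrix (Fin m) (Fin 1) F
local notation "Rm" => Matrix (Fin 1) (Fin m) F

/-- Three-by-three block matrices. -/
def blk (A : Mm) (B : Cm) (C : Mm) (D : Rm) (E : Matrix (Fin 1) (Fin 1) F) (P : Rm) (L : Mm) (Q : Cm) (K : Mm) :
    Matrix ((Fin m ⊕ Fin m) ⊕ Fin 1) ((Fin m ⊕ Fin m) ⊕ Fin 1) F :=
  fromBlocks (fromBlocks A C L K) (fromRows B Q) (fromCols D P) E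

theorem blk_mul (A A' : Mm) (B B' : Cm) (C C' : Mm) (D D' : Rm) (E E' : Matrix (Fin 1) (Fin 1) F) (P P' : Rm)
    (L L' : Mm) (Q Q' : Cm) (K K' : Mm) :
    blk A B C D E P L Q K * blk A' B' C' D' E' P' L' Q' K' =
      blk (A * A' + B * D' + C * L') (A * B' + B * E' + C * Q') (A * C' + B * P' + C * K')
        (D * A' + E * D' + P * L') (D * B' + E * E' + P * Q') (D * C' + E * P' + P * K')
        (L * A' + Q * D' + K * L') (L * B' + Q * E' + K * Q') (L * C' + Q * P' + K * K') := by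
  ext ((i | i) | i) ((j | j) | j) <;>
    simp [blk, Matrix.mul_apply, Fintype.sum_sum_type] <;> ring

theorem ct_blk (τ : F →+* F) (A : Mm) (B : Cm) (C : Mm) (D : Rm) (E : Matrix (Fin 1) (Fin 1) F) (P : Rm) (L : Mm)
    (Q : Cm) (K : Mm) : ct τ (blk A B C D E P L Q K) =
      blk (ct τ A) (ct τ D) (ct τ L) (ct τ B) (ct τ E) (ct τ Q) (ct τ C) (ct τ P) (ct τ K) := by
  ext ((i | i) | i) ((j | j) | j) <;> simp [blk, ct]

theorem blk_one : blk (1 : Mm) 0 0 0 1 0 0 0 1 = 1 := by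
  rw [blk, fromBlocks_one, fromRows_zero, fromCols_zero, fromBlocks_one]

end Blocks

variable {F : Type*} [Field F] [Fintype F] [DecidableEq F] {q m : ℕ} (hF : Fintype.card F = q ^ 2)

local notation "σ" => frob hF
local notation "Mt" => Matrix ((Fin m ⊕ Fin m) ⊕ Fin 1) ((Fin m ⊕ Fin m) ⊕ Fin 1) F

/-- The hyperbolic form in odd dimension. -/
def Jo : Matrix ((Fin m ⊕ Fin m) ⊕ Fin 1) ((Fin m ⊕ Fin m) ⊕ Fin 1) F := blk 0 0 1 0 1 0 1 0 0

/-- The basis in odd dimension. -/
noncomputable def Po : Mt := fromBlocks (Pm hF) 0 0 1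

omit [DecidableEq F] in
theorem ct_zero' {a b : Type*} (τ : F →+* F) : ct τ (0 : Matrix a b F) = 0 := by
  ext i j; simp [ct]

omit [Fintype F] [DecidableEq F] in
theorem Jo_eq : (Jo (F := F) (m := m)) = fromBlocks Jm 0 0 1 := by
  rw [Jo, blk, Jm, fromRows_zero, fromCols_zero]

omit [Fintype F] [DecidableEq F] in
theorem Jo_sq : (Jo (F := F) (m := m)) * Jo = 1 := by
  rw [Jo_eq, fromBlocks_multiply, Jm_sq]; simp

omit [DecidableEq F] in
theorem Po_spec : ct σ (Po (m := m) hF) * Po hF = Jo := by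
  have e : ct σ (Po (m := m) hF) = fromBlocks (ct σ (Pm hF)) 0 0 1 := by
    rw [Po]
    ext (i | i) (j | j) <;> simp [ct, Matrix.one_apply, eq_comm, apply_ite σ]
  rw [e, Po, fromBlocks_multiply, Jo_eq]
  simp [Pm_spec]

omit [DecidableEq F] in
theorem Po_inv : Jo * ct σ (Po (m := m) hF) * Po hF = 1 := by rw [Matrix.mul_assoc, Po_spec, Jo_sq]

omit [DecidableEq F] in
theorem Po_inv' : Po (m := m) hF * (Jo * ct σ (Po hF)) = 1 := mul_eq_one_comm.1 (Po_inv hF)

/-- Reindexing. -/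
def idx (m : ℕ) : (Fin m ⊕ Fin m) ⊕ Fin 1 ≃ Fin (m + m + 1) :=
  (Equiv.sumCongr finSumFinEquiv (Equiv.refl _)).trans finSumFinEquiv

/-- The matrix in the standard basis. -/
noncomputable def conjO (X : Mt) : Matrix (Fin (m + m + 1)) (Fin (m + m + 1)) F :=
  (Po hF * X * (Jo * ct σ (Po hF))).submatrix (idx m).symm (idx m).symm

omit [DecidableEq F] in
theorem conjO_mul (X Y : Mt) : conjO hF (X * Y) = conjO hF X * conjO hF Y := by
  rw [conjO, conjO, conjO, submatrix_mul_equiv]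
  congr 1
  calc Po hF * (X * Y) * (Jo * ct σ (Po hF))
      = Po hF * X * 1 * Y * (Jo * ct σ (Po hF)) := by simp only [Matrix.mul_assoc, Matrix.one_mul]
    _ = _ := by rw [← Po_inv hF]; simp only [Matrix.mul_assoc]

omit [DecidableEq F] in
theorem conjO_iso (X : Mt) (hX : ct σ X * Jo * X = Jo) : ct σ (conjO hF X) * conjO hF X = 1 := by
  have e : ct σ (conjO hF X) = (ct σ (Po hF * X * (Jo * ct σ (Po hF)))).submatrix (idx m).symm (idx m).symm := rfl
  rw [e, conjO, submatrix_mul_equiv]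
  have hJ : ct σ (Jo (F := F) (m := m)) = Jo := by rw [Jo, ct_blk]; simp [ct_one, ct_zero']
  rw [show ct σ (Po hF * X * (Jo * ct σ (Po hF))) * (Po hF * X * (Jo * ct σ (Po hF))) = 1 by
    rw [ct_mul, ct_mul, ct_mul, hJ, ct_ct _ (frob_frob hF)]
    calc Po hF * Jo * (ct σ X * ct σ (Po hF)) * (Po hF * X * (Jo * ct σ (Po hF)))
        = Po hF * Jo * (ct σ X * (ct σ (Po hF) * Po hF) * X) * (Jo * ct σ (Po hF)) := by
          simp only [Matrix.mul_assoc]
      _ = Po hF * (Jo * Jo) * (Jo * ct σ (Po hF)) := by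
          rw [Po_spec, hX]; simp only [Matrix.mul_assoc]
      _ = 1 := by rw [Jo_sq, Matrix.mul_one, Po_inv']]
  exact submatrix_one_equiv _

/-- An element of `SU` from an isometry of the hyperbolic form. -/
noncomputable def mkO (X : Mt) (hX : ct σ X * Jo * X = Jo) (hd : X.det = 1) : Cfsg.SU (m + m + 1) F q :=
  mkSU (conjO hF X) (iso_of_ct hF (conjO_iso hF X hX))
    (by rw [conjO, det_submatrix_equiv_self, det_mul_right_comm, Po_inv', Matrix.one_mul, hd])

omit [DecidableEq F] in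
theorem conjO_inj {X Y : Mt} (h : conjO hF X = conjO hF Y) : X = Y := by
  have h' := congrArg (fun M : Matrix (Fin (m + m + 1)) (Fin (m + m + 1)) F =>
    Jo * ct σ (Po hF) * M.submatrix (idx m) (idx m) * Po hF) h
  simp only [conjO, submatrix_submatrix, Equiv.symm_comp_self, submatrix_id_id] at h'
  have e : ∀ Z : Mt, Jo * ct σ (Po hF) * (Po hF * Z * (Jo * ct σ (Po hF))) * Po hF = Z := fun Z => by
    calc _ = (Jo * ct σ (Po hF) * Po hF) * Z * (Jo * ct σ (Po hF) * Po hF) := by simp only [Matrix.mul_assoc]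
      _ = Z := by rw [Po_inv, Matrix.one_mul, Matrix.mul_one]
  rwa [e, e] at h'

omit [DecidableEq F] in
theorem mkO_mul {X Y Z : Mt} (hX : ct σ X * Jo * X = Jo) (hXd : X.det = 1) (hY : ct σ Y * Jo * Y = Jo)
    (hYd : Y.det = 1) (hZ : ct σ Z * Jo * Z = Jo) (hZd : Z.det = 1) (h : X * Y = Z) :
    mkO hF X hX hXd * mkO hF Y hY hYd = mkO hF Z hZ hZd :=
  Subtype.ext (Subtype.ext (by
    show conjO hF X * conjO hF Y = conjO hF Z
    rw [← conjO_mul, h]))

omit [DecidableEq F] in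
theorem ct_neg' {a b : Type*} (A : Matrix a b F) : ct σ (-A) = -ct σ A := by
  ext i j; simp [ct]

/-- An element of the Heisenberg radical. -/
noncomputable def heis (a : Matrix (Fin 1) (Fin m) F) (T : Matrix (Fin m) (Fin m) F)
    (hT : T + ct σ T + ct σ a * a = 0) : Cfsg.SU (m + m + 1) F q :=
  mkO hF (blk 1 (-ct σ a) T 0 1 a 0 0 1)
    (by
      have h33 : T + ct σ a * a + ct σ T = 0 := by rw [← hT]; abel
      rw [ct_blk, Jo, blk_mul, blk_mul]
      simp [ct_one, ct_zero', ct_neg', ct_ct _ (frob_frob hF), h33])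
    (by
      rw [blk, det_fromBlocks_one₂₂, fromRows_mul_fromCols, sub_eq_add_neg, fromBlocks_neg, fromBlocks_add]
      simp)

omit [DecidableEq F] in
theorem skw_cond (S : Skw σ m) : S.1 + ct σ S.1 + ct σ (0 : Matrix (Fin 1) (Fin m) F) * (0 : Matrix (Fin 1) (Fin m) F) = 0 := by
  rw [show ct σ S.1 = -S.1 from S.2]; simp [ct_zero']

/-- The centre of the radical. -/
noncomputable def zc (S : Skw σ m) : Cfsg.SU (m + m + 1) F q := heis hF 0 S.1 (skw_cond hF S)

omit [DecidableEq F] in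
theorem zc_add (S T : Skw σ m) : zc hF (S + T) = zc hF S * zc hF T := by
  refine Subtype.ext (Subtype.ext ?_)
  show conjO hF (blk 1 (-ct σ (0 : Matrix (Fin 1) (Fin m) F)) (S.1 + T.1) 0 1 0 0 0 1) =
    conjO hF (blk 1 (-ct σ (0 : Matrix (Fin 1) (Fin m) F)) S.1 0 1 0 0 0 1) *
      conjO hF (blk 1 (-ct σ (0 : Matrix (Fin 1) (Fin m) F)) T.1 0 1 0 0 0 1)
  rw [← conjO_mul, blk_mul]
  simp [ct_zero', add_comm]

omit [DecidableEq F] in
theorem zc_comm (S : Skw σ m) (a : Matrix (Fin 1) (Fin m) F) (T : Matrix (Fin m) (Fin m) F)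
    (hT : T + ct σ T + ct σ a * a = 0) : zc hF S * heis hF a T hT = heis hF a T hT * zc hF S := by
  refine Subtype.ext (Subtype.ext ?_)
  show conjO hF (blk 1 (-ct σ (0 : Matrix (Fin 1) (Fin m) F)) S.1 0 1 0 0 0 1) *
      conjO hF (blk 1 (-ct σ a) T 0 1 a 0 0 1) =
    conjO hF (blk 1 (-ct σ a) T 0 1 a 0 0 1) *
      conjO hF (blk 1 (-ct σ (0 : Matrix (Fin 1) (Fin m) F)) S.1 0 1 0 0 0 1)
  rw [← conjO_mul, ← conjO_mul, blk_mul, blk_mul]
  simp [ct_zero', add_comm]

omit [DecidableEq F] in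
theorem heis_comm (a b : Matrix (Fin 1) (Fin m) F) (T U : Matrix (Fin m) (Fin m) F)
    (hT : T + ct σ T + ct σ a * a = 0) (hU : U + ct σ U + ct σ b * b = 0) (S : Skw σ m)
    (hS : S.1 = ct σ a * b - ct σ b * a) :
    heis hF b U hU * heis hF a T hT = zc hF S * (heis hF a T hT * heis hF b U hU) := by
  refine Subtype.ext (Subtype.ext ?_)
  show conjO hF (blk 1 (-ct σ b) U 0 1 b 0 0 1) * conjO hF (blk 1 (-ct σ a) T 0 1 a 0 0 1) =
    conjO hF (blk 1 (-ct σ (0 : Matrix (Fin 1) (Fin m) F)) S.1 0 1 0 0 0 1) *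
      (conjO hF (blk 1 (-ct σ a) T 0 1 a 0 0 1) * conjO hF (blk 1 (-ct σ b) U 0 1 b 0 0 1))
  rw [← conjO_mul, ← conjO_mul, ← conjO_mul, blk_mul, blk_mul, blk_mul]
  simp [ct_zero', hS]
  congr 1 <;> abel

omit [DecidableEq F] in
theorem leviO_exists (A : Matrix (Fin m) (Fin m) F) (hA : A.det ≠ 0) :
    ∃ g : Cfsg.SU (m + m + 1) F q, ∀ S T : Skw σ m, T.1 = A * S.1 * ct σ A → g * zc hF S = zc hF T * g := by
  have hσA : σ A.det ≠ 0 := (map_ne_zero σ).2 hA
  have hu : IsUnit (ct σ A).det := by rw [ct_det]; exact isUnit_iff_ne_zero.2 hσA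
  have hB : ct σ A * (ct σ A)⁻¹ = 1 := mul_nonsing_inv _ hu
  have hB1 : (ct σ A)⁻¹ * ct σ A = 1 := nonsing_inv_mul _ hu
  have hB2 : ct σ (ct σ A)⁻¹ * A = 1 := by
    have := congrArg (ct σ) hB
    rwa [ct_mul, ct_ct _ (frob_frob hF), ct_one] at this
  set e : F := σ A.det / A.det with he
  have hee : σ e * e = 1 := by rw [he, map_div₀, frob_frob]; field_simp
  have hE : ct σ (e • (1 : Matrix (Fin 1) (Fin 1) F)) = σ e • 1 := by
    ext i j
    rcases eq_or_ne i j with rfl | hij <;> simp [ct, *, Ne.symm]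
  refine ⟨mkO hF (blk A 0 0 0 (e • 1) 0 0 0 (ct σ A)⁻¹) ?_ ?_, fun S T hT => ?_⟩
  · rw [ct_blk, Jo, blk_mul, blk_mul]
    simp [ct_zero', hE, hB, hB2, smul_smul, mul_comm e, hee]
  · rw [blk, fromRows_zero, fromCols_zero, det_fromBlocks_zero₂₁, det_fromBlocks_zero₂₁, det_nonsing_inv, ct_det,
      Ring.inverse_eq_inv', det_smul, det_one, Fintype.card_fin, pow_one, mul_one, he]
    field_simp
  · refine Subtype.ext (Subtype.ext ?_)
    show conjO hF (blk A 0 0 0 (e • 1) 0 0 0 (ct σ A)⁻¹) *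
        conjO hF (blk 1 (-ct σ (0 : Matrix (Fin 1) (Fin m) F)) S.1 0 1 0 0 0 1) =
      conjO hF (blk 1 (-ct σ (0 : Matrix (Fin 1) (Fin m) F)) T.1 0 1 0 0 0 1) *
        conjO hF (blk A 0 0 0 (e • 1) 0 0 0 (ct σ A)⁻¹)
    rw [← conjO_mul, ← conjO_mul, blk_mul, blk_mul, hT]
    simp [ct_zero', Matrix.mul_assoc, hB]

include hF in
/-- Eigenspaces of the centre of the radical are large. -/
theorem eig_dim {c0 d0 : F} (hu0 : c0 * d0 - σ (c0 * d0) = c0) (hd0 : d0 + σ d0 = 1) (ψ : AddChar F ℂ)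
    (hψ : ψ c0 ≠ 1) [Fintype (Skw σ m)] {k : ℕ} (ρ : Representation ℂ (Cfsg.SU (m + m + 1) F q) (Fin k → ℂ))
    (H' : Matrix (Fin m) (Fin m) F) (hH : ∀ i j, σ (H' i j) = H' j i) (hH' : H' ≠ 0)
    (χ : AddChar (Skw σ m) ℂ) (hχ : ∀ S, χ S = ψ (H' * S.1).trace) (w : Fin k → ℂ) (hw0 : w ≠ 0)
    (hw : ∀ S, ρ (zc hF S) w = χ S • w) : q ≤ Module.finrank ℂ (eigSpace (zc hF) ρ χ) := by
  classical
  obtain ⟨r, hr⟩ : ∃ r : Matrix (Fin 1) (Fin m) F, (r * H' * ct σ r) 0 0 ≠ 0 := by
    by_cases hd : ∃ i, H' i i ≠ 0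
    · obtain ⟨i, hi⟩ := hd
      refine ⟨Matrix.single 0 i 1, ?_⟩
      simpa [Matrix.mul_apply, ct, Matrix.single_apply, apply_ite σ] using hi
    · push Not at hd
      obtain ⟨i, j, hij⟩ : ∃ i j, H' i j ≠ 0 := by
        by_contra hcon
        push Not at hcon
        exact hH' (Matrix.ext hcon)
      have hne : i ≠ j := fun h => hij (h ▸ hd i)
      refine ⟨Matrix.single 0 i 1 + Matrix.single 0 j (σ (d0 / H' i j)), ?_⟩
      have hcalc : ((Matrix.single 0 i 1 + Matrix.single 0 j (σ (d0 / H' i j))) * H' *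
          ct σ (Matrix.single 0 i 1 + Matrix.single 0 j (σ (d0 / H' i j))) : Matrix (Fin 1) (Fin 1) F) 0 0 =
          H' i j * σ (σ (d0 / H' i j)) + σ (d0 / H' i j) * H' j i := by
        simp [Matrix.mul_apply, ct, Matrix.single_apply, apply_ite σ, add_mul, mul_add, Finset.sum_add_distrib,
          hd, frob_frob]
        ring
      rw [hcalc, ← hH i j, frob_frob, mul_div_cancel₀ _ hij, ← map_mul, div_mul_cancel₀ _ hij, hd0]
      exact one_ne_zero
  set h := (r * H' * ct σ r) 0 0 with hh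
  have hTT : ∀ t : F, -(d0 • (ct σ (t • r) * (t • r))) + ct σ (-(d0 • (ct σ (t • r) * (t • r)))) +
      ct σ (t • r) * (t • r) = 0 := by
    intro t
    ext i j
    simp [ct, frob_frob, Matrix.mul_apply]
    linear_combination (-(σ t * σ (r 0 i) * (t * r 0 j))) * hd0
  let U : F → Cfsg.SU (m + m + 1) F q := fun t => heis hF (t • r) _ (hTT t)
  let W := eigSpace (zc hF) ρ (χ)
  have hinvW : ∀ t, ∀ x ∈ W, ρ (U t) x ∈ W := by
    intro t x hx S
    rw [← Module.End.mul_apply, ← map_mul, zc_comm, map_mul, Module.End.mul_apply, hx S, map_smul]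
  have hinvW' : ∀ t, ∀ x ∈ W, ρ (U t)⁻¹ x ∈ W := by
    intro t x hx S
    have e : zc hF S * (U t)⁻¹ = (U t)⁻¹ * zc hF S := by
      rw [eq_inv_mul_iff_mul_eq, ← mul_assoc, ← zc_comm, mul_inv_cancel_right]
    rw [← Module.End.mul_apply, ← map_mul, e, map_mul, Module.End.mul_apply, hx S, map_smul]
  let ξ : F → AddChar F ℂ := fun t =>
    { toFun := fun s => ψ (s * σ t * h - σ (s * σ t * h))
      map_zero_eq_one' := by simp
      map_add_eq_mul' := fun a b => by
        rw [← AddChar.map_add_eq_mul]; congr 1; simp only [map_add, add_mul]; ring }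
  have hξ : ∀ t s, ξ t s = ψ (s * σ t * h - σ (s * σ t * h)) := fun _ _ => rfl
  have hcomm : ∀ t s, ∀ x ∈ W, ρ (U s) (ρ (U t) x) = ξ t s • ρ (U t) (ρ (U s) x) := by
    intro t s x hx
    let S : Skw σ m := ⟨ct σ (t • r) * (s • r) - ct σ (s • r) * (t • r), by
      show ct σ (ct σ (t • r) * (s • r) - ct σ (s • r) * (t • r)) = -_
      ext i j
      simp [ct, frob_frob, Matrix.mul_apply]
      ring⟩
    rw [← Module.End.mul_apply, ← map_mul, heis_comm hF (t • r) (s • r) _ _ _ _ S rfl, map_mul,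
      Module.End.mul_apply, map_mul, Module.End.mul_apply,
      (hinvW t _ (hinvW s _ hx)) S, hχ, hξ]
    congr 2
    show (H' * (ct σ (t • r) * (s • r) - ct σ (s • r) * (t • r))).trace = _
    have e1 : ∀ a b : F, (H' * (ct σ (a • r) * (b • r))).trace = b * σ a * h := by
      intro a b
      rw [hh, ← Matrix.mul_assoc, Matrix.trace_mul_comm]
      simp only [Matrix.trace, Matrix.diag, Fin.sum_univ_one, ← Matrix.mul_assoc]
      rw [show ct σ (a • r) = σ a • ct σ r by ext i j; simp [ct]]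
      simp [Matrix.mul_smul, Matrix.smul_mul, mul_comm, mul_left_comm] <;> ring
    have hhσ : σ h = h := by
      rw [hh]
      have hHc : ct σ H' = H' := Matrix.ext fun a b => hH b a
      have : ct σ (r * H' * ct σ r) = r * H' * ct σ r := by
        rw [ct_mul, ct_mul, hHc, ct_ct _ (frob_frob hF), Matrix.mul_assoc]
      exact congrFun (congrFun this 0) 0
    rw [Matrix.mul_sub, trace_sub, e1, e1, map_mul, map_mul, frob_frob, hhσ]
    ring
  have hinj : Function.Injective ξ := by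
    intro t t0 e'
    by_contra ht
    have hd : σ (t - t0) ≠ 0 := (map_ne_zero σ).2 (sub_ne_zero.2 ht)
    have hs := DFunLike.congr_fun e' (c0 * d0 / (σ (t - t0) * h))
    apply hψ
    rw [hξ, hξ] at hs
    set s := c0 * d0 / (σ (t - t0) * h) with hs'
    have hu : s * σ t * h - s * σ t0 * h = c0 * d0 := by
      rw [hs', ← sub_mul, ← mul_sub, ← map_sub, mul_assoc, div_mul_cancel₀ _ (mul_ne_zero hd hr)]
    have hu' := congrArg σ hu
    rw [map_sub] at hu'
    rw [show c0 = (s * σ t * h - σ (s * σ t * h)) - (s * σ t0 * h - σ (s * σ t0 * h)) by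
      linear_combination -hu0 - hu + hu', sub_eq_add_neg, AddChar.map_add_eq_mul, hs,
      ← AddChar.map_add_eq_mul, add_neg_cancel, AddChar.map_zero_eq_one]
  have hle := card_le_sq ρ U W hinvW hinvW' (w := w) hw hw0 ξ hinj hcomm
  rw [hF, ← sq] at hle
  exact (Nat.pow_le_pow_iff_left (by norm_num)).1 hle

include hF in
/-- The minimal degree of `SU_{2m+1}(q)`. -/
theorem unitary_odd_bound (hm : 1 ≤ m) (hex : ¬ (m + m + 1 = 3 ∧ q = 2)) (k : ℕ)
    (ρ : Representation ℂ (Cfsg.SU (m + m + 1) F q) (Fin k → ℂ))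
    (hirr : ρ.IsIrreducible) (hk : 2 ≤ k) : q * (q ^ (2 * m) - 1) ≤ (q + 1) * k := by
  classical
  haveI : NeZero m := ⟨by omega⟩
  obtain ⟨c0, hc0, hskew⟩ := exists_skew hF
  obtain ⟨d0, hd0'⟩ := exists_trace_one hF
  have hd0 : d0 + σ d0 = 1 := by rw [add_comm]; exact hd0'
  have hσc : σ c0 = -c0 := by linear_combination hskew
  obtain ⟨ψ, hψ⟩ := AddChar.exists_apply_ne_zero.2 hc0
  have hu0 : c0 * d0 - σ (c0 * d0) = c0 := by
    rw [map_mul]; linear_combination c0 * hd0 - σ d0 * hσc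
  haveI : Fintype (Skw σ m) := Fintype.ofFinite _
  let Herm := {H : Matrix (Fin m) (Fin m) F // ∀ i j, σ (H i j) = H j i}
  haveI : Fintype Herm := Fintype.ofFinite _
  let Χ : Herm → AddChar (Skw σ m) ℂ := fun H =>
    { toFun := fun S => ψ (H.1 * S.1).trace
      map_zero_eq_one' := by simp
      map_add_eq_mul' := fun S T => by
        rw [AddSubgroup.coe_add, Matrix.mul_add, trace_add, AddChar.map_add_eq_mul] }
  have hΧ : ∀ H S, Χ H S = ψ (H.1 * S.1).trace := fun _ _ => rfl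
  have hinj : Function.Injective Χ := by
    intro H H' h
    refine Subtype.ext (Matrix.ext fun i j => ?_)
    by_contra hne
    set z := H.1 i j - H'.1 i j with hz
    have hz0 : z ≠ 0 := sub_ne_zero.2 hne
    set t := c0 * d0 / z with ht
    let S : Skw σ m := ⟨Matrix.single j i t - Matrix.single i j (σ t), by
      show (Matrix.single j i t - Matrix.single i j (σ t))ᵀ.map σ = -_
      rw [Matrix.transpose_sub, Matrix.transpose_single, Matrix.transpose_single, Matrix.map_sub _ (map_sub σ),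
        Matrix.map_single, Matrix.map_single, frob_frob, neg_sub]⟩
    have htr : ∀ M : Matrix (Fin m) (Fin m) F, (M * S.1).trace = M i j * t - M j i * σ t := fun M => by
      show (M * (Matrix.single j i t - Matrix.single i j (σ t))).trace = _
      rw [Matrix.mul_sub, trace_sub, Matrix.trace_mul_comm, Matrix.trace_single_mul, Matrix.trace_mul_comm,
        Matrix.trace_single_mul]
      simp only [smul_eq_mul]
      ring
    have hh := DFunLike.congr_fun h S
    rw [hΧ, hΧ, htr, htr, ← H.2 i j, ← H'.2 i j, ← map_mul, ← map_mul] at hh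
    apply hψ
    have e : c0 = (H.1 i j * t - σ (H.1 i j * t)) - (H'.1 i j * t - σ (H'.1 i j * t)) := by
      have hu : z * t = c0 * d0 := by rw [ht, mul_div_cancel₀ _ hz0]
      have hu' : σ (z * t) = σ (c0 * d0) := by rw [hu]
      simp only [hz, map_sub, map_mul] at hu hu' hu0
      rw [map_mul, map_mul]
      linear_combination -hu0 - hu + hu'
    rw [e, sub_eq_add_neg, AddChar.map_add_eq_mul, hh, ← AddChar.map_add_eq_mul, add_neg_cancel,
      AddChar.map_zero_eq_one]
  have hcard : Fintype.card Herm = Fintype.card (Skw σ m) := by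
    refine Fintype.card_congr
      { toFun := fun H => ⟨c0 • H.1, ?_⟩
        invFun := fun S => ⟨c0⁻¹ • S.1, fun i j => ?_⟩
        left_inv := fun H => Subtype.ext (inv_smul_smul₀ hc0 _)
        right_inv := fun S => Subtype.ext (smul_inv_smul₀ hc0 _) }
    · show (c0 • H.1)ᵀ.map σ = -(c0 • H.1)
      ext i j
      simp [hσc, H.2]
    · have hS : σ (S.1 i j) = -S.1 j i := congrFun (congrFun (show ct σ S.1 = -S.1 from S.2) j) i
      simp [map_inv₀, hσc, hS]
  have hbij : Function.Surjective Χ :=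
    ((Fintype.bijective_iff_injective_and_card Χ).2 ⟨hinj, by rw [AddChar.card_eq, hcard]⟩).2
  have hnt : ∃ S, ρ (zc hF S) ≠ 1 := by
    let S0 : Skw σ m := ⟨c0 • 1, by
      show (c0 • (1 : Matrix (Fin m) (Fin m) F))ᵀ.map σ = -(c0 • 1)
      ext i j
      rcases eq_or_ne i j with rfl | hij <;> simp [*, Ne.symm]⟩
    refine ⟨S0, nontrivial_of_simple (UnitarySimple.simple hF (by omega) hex)
      (UnitarySimple.perfect hF (by omega) hex) ρ hirr hk fun hc => ?_⟩
    have hS0 : ct σ S0.1 = -S0.1 := S0.2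
    have h2 : ct σ (blk (1 : Matrix (Fin m) (Fin m) F) 0 0 0 1 0 S0.1 0 1) * Jo *
        blk 1 0 0 0 1 0 S0.1 0 1 = Jo := by
      rw [ct_blk, Jo, blk_mul, blk_mul]
      simp [ct_zero', ct_one, hS0]
    have e := Subgroup.mem_center_iff.1 hc (mkO hF (blk 1 0 0 0 1 0 S0.1 0 1) h2 (by
      rw [blk, fromRows_zero, fromCols_zero, det_fromBlocks_zero₂₁, det_fromBlocks_zero₁₂]; simp))
    have e' : conjO hF (blk 1 0 0 0 1 0 S0.1 0 1) *
          conjO hF (blk 1 (-ct σ (0 : Matrix (Fin 1) (Fin m) F)) S0.1 0 1 0 0 0 1) =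
        conjO hF (blk 1 (-ct σ (0 : Matrix (Fin 1) (Fin m) F)) S0.1 0 1 0 0 0 1) *
          conjO hF (blk 1 0 0 0 1 0 S0.1 0 1) :=
      congrArg (fun x : Cfsg.SU (m + m + 1) F q => mat x) e
    rw [← conjO_mul, ← conjO_mul, blk_mul, blk_mul] at e'
    have e'' := congrFun (congrFun (conjO_inj hF e') (Sum.inl (Sum.inl ⟨0, by omega⟩)))
      (Sum.inl (Sum.inl ⟨0, by omega⟩))
    simp [S0, blk, ct_zero', hc0] at e''
  obtain ⟨S1, hS1⟩ := hnt
  obtain ⟨χ, hχ1, w, hw0, hw⟩ := exists_eigen (zc hF) (zc_add hF) ρ hS1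
  obtain ⟨H, rfl⟩ := hbij χ
  have hH0 : H.1 ≠ 0 := fun h => hχ1 (DFunLike.ext _ _ fun S => by rw [hΧ, h]; simp)
  -- eigenspaces are large
  have hdim : ∀ H' : Herm, H'.1 ≠ 0 → ∀ w, w ≠ 0 → (∀ S, ρ (zc hF S) w = Χ H' S • w) →
      q ≤ Module.finrank ℂ (eigSpace (zc hF) ρ (Χ H')) := fun H' hH' w hw0 hw =>
    eig_dim hF hu0 hd0 ψ hψ ρ H'.1 H'.2 hH' (Χ H') (fun S => rfl) w hw0 hw
  let Os : Finset Herm := Finset.univ.filter fun H' =>
    H'.1 ≠ 0 ∧ ∃ w, w ≠ 0 ∧ ∀ S, ρ (zc hF S) w = Χ H' S • w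
  have hmem : ∀ A : Matrix (Fin m) (Fin m) F, A.det ≠ 0 → ct σ A * H.1 * A ∈ Os.image Subtype.val := by
    intro A hA
    have hHc : ct σ H.1 = H.1 := Matrix.ext fun a b => H.2 b a
    have hherm : ∀ i j, σ ((ct σ A * H.1 * A) i j) = (ct σ A * H.1 * A) j i := by
      intro i j
      have : ct σ (ct σ A * H.1 * A) = ct σ A * H.1 * A := by
        rw [ct_mul, ct_mul, hHc, ct_ct _ (frob_frob hF), Matrix.mul_assoc]
      exact congrFun (congrFun this j) i
    refine Finset.mem_image.2 ⟨⟨_, hherm⟩, Finset.mem_filter.2 ⟨Finset.mem_univ _, fun h0 => hH0 ?_, ?_⟩, rfl⟩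
    · have hu : IsUnit A.det := isUnit_iff_ne_zero.2 hA
      have hu' : IsUnit (ct σ A).det := by
        rw [ct_det]; exact isUnit_iff_ne_zero.2 ((map_ne_zero σ).2 hA)
      calc H.1 = ((ct σ A)⁻¹ * ct σ A) * H.1 * (A * A⁻¹) := by
            rw [nonsing_inv_mul _ hu', mul_nonsing_inv _ hu, Matrix.one_mul, Matrix.mul_one]
        _ = (ct σ A)⁻¹ * (ct σ A * H.1 * A) * A⁻¹ := by simp only [Matrix.mul_assoc]
        _ = 0 := by rw [show ct σ A * H.1 * A = 0 from h0]; simp
    obtain ⟨g, hg⟩ := leviO_exists hF A hA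
    let cS : Skw σ m → Skw σ m := fun S => ⟨A * S.1 * ct σ A, by
      show ct σ (A * S.1 * ct σ A) = -_
      rw [ct_mul, ct_mul, ct_ct _ (frob_frob hF), show ct σ S.1 = -S.1 from S.2, Matrix.neg_mul, Matrix.mul_neg,
        Matrix.mul_assoc]⟩
    refine eigen_conj (zc hF) ρ hw0 hw g cS (fun S => hg S _ rfl) fun S => ?_
    rw [hΧ, hΧ]
    show ψ (ct σ A * H.1 * A * S.1).trace = ψ (H.1 * (A * S.1 * ct σ A)).trace
    rw [Matrix.trace_mul_comm H.1, Matrix.mul_assoc, Matrix.mul_assoc, Matrix.trace_mul_comm (ct σ A)]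
    simp only [Matrix.mul_assoc]
    rw [Matrix.trace_mul_comm H.1]
    simp only [Matrix.mul_assoc]
  have h1 : q ^ (2 * m) - 1 ≤ (q + 1) * (Os.image Subtype.val).card := by
    rcases Nat.lt_or_ge m 2 with hm1 | hm2
    · obtain rfl : m = 1 := by omega
      have hh0 : H.1 0 0 ≠ 0 := fun h => hH0 (Matrix.ext fun i j => by
        rw [Subsingleton.elim i 0, Subsingleton.elim j 0, h]; rfl)
      set Fq := Finset.univ.filter fun r : F => r ≠ 0 ∧ σ r = r with hFq
      have hsub : (Fq.image fun r => Matrix.of fun (_ _ : Fin 1) => r) ⊆ Os.image Subtype.val := by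
        intro M hM
        obtain ⟨r, hr, rfl⟩ := Finset.mem_image.1 hM
        obtain ⟨-, hr0, hrσ⟩ := Finset.mem_filter.1 hr
        obtain ⟨t, ht⟩ := exists_norm_eq hF (c := r / H.1 0 0) (by rw [map_div₀, hrσ, H.2 0 0])
        have ht0 : t ≠ 0 := fun h => by
          rw [h, zero_mul] at ht; exact div_ne_zero hr0 hh0 ht.symm
        have := hmem (Matrix.of fun _ _ => t) (by simpa [det_unique] using ht0)
        convert this using 1
        ext i j
        rw [Subsingleton.elim i 0, Subsingleton.elim j 0]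
        simp [Matrix.mul_apply, ct]
        field_simp at ht
        linear_combination -ht
      have hc := Finset.card_le_card hsub
      have hi : Function.Injective fun r : F => Matrix.of fun (_ _ : Fin 1) => r := fun a b h =>
        congrFun (congrFun h (0 : Fin 1)) (0 : Fin 1)
      rw [Finset.card_image_of_injective _ hi, hFq,
        show (Finset.univ.filter fun r : F => r ≠ 0 ∧ σ r = r) =
          (Finset.univ.filter fun r : F => σ r = r).erase 0 by ext r; simp,
        Finset.card_erase_of_mem (by simp), card_fix hF (frob_frob hF) c0 hc0 hskew d0 hd0] at hc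
      refine le_trans ?_ (Nat.mul_le_mul_left _ hc)
      rcases q with _ | q'
      · simp
      · rw [Nat.add_sub_cancel, show (q' + 1) ^ (2 * 1) = (q' + 1 + 1) * q' + 1 by ring]
        omega
    · exact orbit_herm hF (frob_frob hF) c0 hc0 hskew d0 hd0 hm2 (fun c hc => exists_norm_eq hF hc)
        (fun s hs => by rw [frob_apply] at hs; rw [pow_succ']; exact hs) H.1 H.2 hH0 _
        (fun A hA _ => hmem A hA)
  have h2 : Os.card * q ≤ k := by
    rw [← Finset.card_image_of_injective Os hinj]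
    refine card_mul_le (zc hF) ρ _ q fun χ hχ => ?_
    obtain ⟨H', hH', rfl⟩ := Finset.mem_image.1 hχ
    obtain ⟨-, hne, w', hw'0, hw'⟩ := Finset.mem_filter.1 hH'
    exact hdim H' hne w' hw'0 hw'
  calc q * (q ^ (2 * m) - 1) ≤ q * ((q + 1) * Os.card) :=
        Nat.mul_le_mul_left _ (h1.trans (Nat.mul_le_mul_left _ Finset.card_image_le))
    _ = (q + 1) * (Os.card * q) := by ring
    _ ≤ _ := Nat.mul_le_mul_left _ h2

end CfsgLib.RadicalBound
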